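import Mathlib
import Cfsg.Agent.Mult.Basic
import Cfsg.Agent.Chev.Mor

/-! Lifting Steinberg's relations to central extensions. -/

set_option autoImplicit false

namespace Cfsg.Agent.Mult
open Subgroup Cfsg.Lie Cfsg.Agent.Chev Cfsg.Agent.H2.Schur
open scoped commutatorElement

variable {D : ChevalleyDatum} [g : Good2 D] {F : Type*} [Field F] {G E : Type*} [Group G] [Group E]
  {S : StSys D F G} {π : E →* G} {y : Rt D → F → E}

/-- the subgroup generated by the lifts at a set of roots -/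
def YS (y : Rt D → F → E) (T : Set (Rt D)) : Subgroup E := closure {a | ∃ r ∈ T, ∃ t, a = y r t}

/-- additive lifts of the root elements -/
structure Lifts (S : StSys D F G) (π : E →* G) (y : Rt D → F → E) : Prop where
  map : ∀ r t, π (y r t) = S.x r t
  add : ∀ r t u, y r (t + u) = y r t * y r u

/-- the roots that are positive combinations of two roots -/
def PC (a b : Rt D) : Set (Rt D) := {v | ∃ i j : ℤ, 0 < i ∧ 0 < j ∧ co v = i • co a + j • co b}

/-- `h` acts diagonally on the lifts -/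
def Dg (y : Rt D → F → E) (h : E) (χ : Rt D → F) : Prop :=
  (∀ r, χ r ≠ 0) ∧ ∀ r t, h * y r t * h⁻¹ = y r (χ r * t)

/-- invariant biadditive maps to the kernel vanish -/
def Van (π : E →* G) (y : Rt D → F → E) (a b : Rt D) : Prop :=
  ∀ f : F → F → E, BiOn ⊤ ⊤ f → (∀ t u, π (f t u) = 1) →
    (∀ h χ, Dg y h χ → ∀ t u, f (χ a * t) (χ b * u) = f t u) → ∀ t u, f t u = 1

omit g [Field F] in
theorem y_mem {T : Set (Rt D)} {r : Rt D} (hr : r ∈ T) (t : F) : y r t ∈ YS y T :=
  subset_closure ⟨r, hr, t, rfl⟩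

omit g [Field F] in
theorem YS_le {T : Set (Rt D)} {K : Subgroup E} : YS y T ≤ K ↔ ∀ r ∈ T, ∀ t, y r t ∈ K :=
  ⟨fun h _ hr t => h (y_mem hr t), fun h => (closure_le _).2 (by
    rintro _ ⟨r, hr, t, rfl⟩; exact h r hr t)⟩

omit g [Field F] in
theorem YS_mono {T T' : Set (Rt D)} (h : T ⊆ T') : YS y T ≤ YS y T' :=
  YS_le.2 fun _ hr t => y_mem (h hr) t

omit g [Field F] in
theorem conj_YS {T : Set (Rt D)} {a : E} (h : ∀ r ∈ T, ∀ t, a * y r t * a⁻¹ ∈ YS y T) :
    ∀ m ∈ YS y T, a * m * a⁻¹ ∈ YS y T :=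
  (YS_le (K := (YS y T).comap (MulAut.conj a).toMonoidHom)).2 h

omit g in
theorem Dg.inv {h : E} {χ : Rt D → F} (H : Dg y h χ) : Dg y h⁻¹ fun r => (χ r)⁻¹ :=
  ⟨fun r => inv_ne_zero (H.1 r), fun r t => by
    conv_lhs => rw [← mul_inv_cancel_left₀ (H.1 r) t, ← H.2]
    group⟩

omit g in
theorem Dg.norm {h : E} {χ : Rt D → F} (H : Dg y h χ) (T : Set (Rt D)) :
    h ∈ normalizer (YS y T : Set E) :=
  mem_normalizer_of (conj_YS fun r hr t => H.2 r t ▸ y_mem hr _) (by
    simpa using conj_YS (a := h⁻¹) fun r hr t => H.inv.2 r t ▸ y_mem hr _)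

theorem comm_mem_PC (S : StSys D F G) {a b : Rt D} (h : b ≠ ng a) (t u : F) :
    ⁅S.x a t, S.x b u⁆ ∈ S.XS (PC a b) := by
  have := inv_mem (S.comm_mem (K := S.XS (PC a b)) h
    (fun v i j hi hj e => S.x_mem ⟨i, j, hi, hj, e⟩) (-t) (-u))
  simpa [S.x_neg, commutatorElement_def, mul_assoc] using this

namespace Lifts
variable (L : Lifts S π y)
include L

theorem zero (r : Rt D) : y r 0 = 1 := by simpa using L.add r 0 0

theorem neg (r : Rt D) (t : F) : y r (-t) = (y r t)⁻¹ :=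
  eq_inv_of_mul_eq_one_left (by rw [← L.add, neg_add_cancel, L.zero])

theorem comm_self (r : Rt D) (t u : F) : Commute (y r t) (y r u) := by
  rw [Commute, SemiconjBy, ← L.add, ← L.add, add_comm]

theorem map_YS (T : Set (Rt D)) : (YS y T).map π = S.XS T := by
  rw [YS, MonoidHom.map_closure, StSys.XS]
  congr 1
  ext a
  constructor
  · rintro ⟨_, ⟨r, hr, t, rfl⟩, rfl⟩; exact ⟨r, hr, t, L.map r t⟩
  · rintro ⟨r, hr, t, rfl⟩; exact ⟨_, ⟨r, hr, t, rfl⟩, L.map r t⟩

theorem mem_single {r : Rt D} {a : E} (h : a ∈ YS y {r}) : ∃ t, a = y r t := by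
  induction h using closure_induction with
  | mem _ h => obtain ⟨_, rfl, t, rfl⟩ := h; exact ⟨t, rfl⟩
  | one => exact ⟨0, (L.zero r).symm⟩
  | mul _ _ _ _ h h' => obtain ⟨t, rfl⟩ := h; obtain ⟨u, rfl⟩ := h'; exact ⟨_, (L.add _ _ _).symm⟩
  | inv _ _ h => obtain ⟨t, rfl⟩ := h; exact ⟨_, (L.neg _ _).symm⟩

theorem inj (hc : π.ker ≤ center E) {c : Ix D → ℤ} {R : Set (Rt D)} (hU : Uni c R)
    (hv : ∀ a ∈ R, ∀ b ∈ R, b ≠ a → Van π y a b ∨ ∀ t u, ⁅y a t, y b u⁆ ∈ YS y (PC a b))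
    (T : Finset (Rt D)) : (∀ r ∈ T, r ∈ R) → (∀ r ∈ T, ∀ v ∈ R, ph c r < ph c v → v ∈ T) →
      (∀ m ∈ YS y T, π m = 1 → m = 1) ∧ ∀ b ∈ R, ∀ u, y b u ∈ normalizer (YS y T : Set E) := by
  classical
  induction T using Finset.induction_on_min_value (ph c) with
  | empty =>
    intro _ _
    have : YS y ((∅ : Finset (Rt D)) : Set (Rt D)) = ⊥ := eq_bot_iff.2 (YS_le.2 (by simp))
    rw [this]
    exact ⟨fun m hm _ => hm, fun b _ u => mem_normalizer_of (by simp) (by simp)⟩
  | insert a s has hmin ih =>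
    intro h1 h2
    have ha := h1 a (Finset.mem_insert_self _ _)
    have h3 : ∀ v ∈ R, ph c a < ph c v → v ∈ s := fun v hv h =>
      (Finset.mem_insert.1 (h2 a (Finset.mem_insert_self _ _) v hv h)).resolve_left
        (by rintro rfl; omega)
    have h1' : ∀ r ∈ s, r ∈ R := fun r hr => h1 r (Finset.mem_insert_of_mem hr)
    obtain ⟨i1, i2⟩ := ih h1' fun r hr v hv h => h3 v hv ((hmin r hr).trans_lt h)
    have h4 : ∀ r ∈ R, ∀ b ∈ R, ph c a ≤ ph c r → PC r b ⊆ s := by
      rintro r hr b hb h v ⟨i, j, hi, hj, e⟩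
      refine h3 v (hU.cl r hr b hb v i j hi hj e) ?_
      have := hU.pos r hr
      have := hU.pos b hb
      rw [ph_of_co c e]; nlinarith
    have h5 : ∀ b ∈ R, ∀ t u, ⁅y a t, y b u⁆ ∈ YS y s := fun b hb => by
      by_cases e : b = a
      · intro t u
        rw [e, (L.comm_self a t u).commutator_eq]; exact one_mem _
      refine (hv a ha b hb e).elim (fun h => ?_) fun h t u => YS_mono (h4 a ha b hb le_rfl) (h t u)
      obtain ⟨β, P⟩ := exists_pairing hc i1
      have h6 : ∀ t u, π ⁅y a t, y b u⁆ ∈ (YS y s).map π := fun t u => by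
        rw [L.map_YS, map_commutatorElement, L.map, L.map]
        exact S.XS_mono (h4 a ha b hb le_rfl) (comm_mem_PC S
          (ne_ng_of_ph (add_pos (hU.pos a ha) (hU.pos b hb))) t u)
      exact fun t u => P.mem (h6 t u) (h (fun t u => β (y a t) (y b u))
        ⟨fun t _ t' _ u _ => by rw [L.add, P.left (i2 a ha t) (h6 _ _) (h6 _ _)],
          fun t _ u _ u' _ => by rw [L.add, P.right (i2 b hb u) (h6 _ _) (h6 _ _)]⟩
        (fun t u => P.ker (h6 t u))
        (fun z χ H t u => by rw [← H.2, ← H.2, P.conj (H.norm _) (h6 _ _)]) t u)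
    have h7 : YS y (insert a s : Finset (Rt D)) = YS y s ⊔ YS y {a} := by
      refine le_antisymm (YS_le.2 fun r hr t => ?_) (sup_le (YS_mono (by simp)) (YS_mono (by simp)))
      rcases Finset.mem_insert.1 (Finset.mem_coe.1 hr) with rfl | hr
      · exact mem_sup_right (y_mem (T := {r}) rfl t)
      · exact mem_sup_left (y_mem hr t)
    constructor
    · intro m hm e
      rw [h7, mem_sup_of_normalizes (YS_le.2 fun r hr t => hr ▸ i2 a ha t)] at hm
      obtain ⟨m, hm, _, hz, rfl⟩ := hm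
      obtain ⟨t, rfl⟩ := L.mem_single hz
      by_cases ht : t = 0
      · rw [ht, L.zero, mul_one] at e ⊢
        exact i1 m hm e
      · refine absurd (S.mem_of_x_mem hU (T := s) ⟨fun r hr => hU.pos r (h1' r hr),
          fun r hr b hb v i j hi hj e => h4 r (h1' r hr) b (h1' b hb) (hmin r hr)
            ⟨i, j, hi, hj, e⟩⟩ h1' ha ht ?_) has
        rw [map_mul, L.map, mul_eq_one_iff_inv_eq] at e
        rw [← e, ← L.map_YS]
        exact inv_mem ⟨m, hm, rfl⟩
    · have h8 : ∀ b ∈ R, ∀ u, ∀ m ∈ YS y (insert a s : Finset (Rt D)),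
          y b u * m * (y b u)⁻¹ ∈ YS y (insert a s : Finset (Rt D)) := fun b hb u =>
        conj_YS fun r hr t => by
          rw [h7]
          rcases Finset.mem_insert.1 (Finset.mem_coe.1 hr) with rfl | hr
          · have := mul_mem (mem_sup_left (T := YS y {r}) (inv_mem (h5 b hb t u)))
              (mem_sup_right (y_mem (y := y) (T := {r}) rfl t))
            simpa [commutatorElement_def, mul_assoc] using this
          · exact mem_sup_left ((mem_normalizer_iff.1 (i2 b hb u) _).1 (y_mem hr t))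
      exact fun b hb u => mem_normalizer_of (h8 b hb u) (by simpa [L.neg] using h8 b hb (-u))

theorem inj' (hc : π.ker ≤ center E) {c : Ix D → ℤ} {R : Set (Rt D)} (hU : Uni c R)
    (hv : ∀ a ∈ R, ∀ b ∈ R, b ≠ a → Van π y a b ∨ ∀ t u, ⁅y a t, y b u⁆ ∈ YS y (PC a b))
    {m : E} (hm : m ∈ YS y R) (h : π m = 1) : m = 1 := by
  classical
  exact (L.inj hc hU hv (Finset.univ.filter (· ∈ R)) (by simp) (by simp +contextual)).1 m
    (by simpa using hm) h

theorem relAB (hc : π.ker ≤ center E)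
    (hv : ∀ a b, b ≠ a → b ≠ ng a → Van π y a b ∨ ∀ t u, ⁅y a t, y b u⁆ ∈ YS y (PC a b)) :
    RelAB y where
  add := L.add
  comm r s h1 h2 t u := by
    obtain ⟨c, hr, hs⟩ := exists_ph_pos h2
    refine eq_of_mul_inv_eq_one (L.inj' hc (uni_Hc c) (fun a ha b hb e => hv a b e
      (ne_ng_of_ph (add_pos ha hb))) ?_ ?_)
    · refine mul_mem (mul_mem (y_mem hs _) (y_mem hr _)) (inv_mem (mul_mem (mul_mem (y_mem hr _)
        (y_mem hs _)) (wd_mem fun v c hv => y_mem ?_ _)))
      obtain ⟨q, hq, e⟩ := List.mem_map.mp hv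
      obtain ⟨h1, h2, v', h3, h4⟩ := mem_commTerms hq
      have : v' = v := Fin.ext (h3 ▸ congrArg Prod.fst e)
      exact (uni_Hc _).cl r hr s hs v _ _ (by exact_mod_cast h1) (by exact_mod_cast h2) (this ▸ h4)
    · simp only [map_mul, map_inv, map_wd, L.map, S.comm r s h1 h2, mul_inv_cancel]

end Lifts

end Cfsg.Agent.Mult
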