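import Mathlib
import Cfsg.Agent.Mult.St
import Cfsg.Agent.Chev.Tw2

/-! Lifts of root elements defined by the torus. -/

set_option autoImplicit false
set_option linter.unusedSectionVars false
set_option linter.unusedVariables false

namespace Cfsg.Agent.Mult
open Subgroup Cfsg.Lie Cfsg.Agent.Chev Cfsg.Agent.H2.Schur Function
open scoped commutatorElement

variable {D : ChevalleyDatum} [g : Good2 D] {F : Type*} [Field F] {G E : Type*} [Group G] [Group E]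
  {S : StSys D F G} {π : E →* G}

/-- lifts of elements of two root subgroups commute -/
def CL (S : StSys D F G) (π : E →* G) (a b : Rt D) : Prop :=
  ∀ e e' t u, π e = S.x a t → π e' = S.x b u → Commute e e'

/-- biadditive maps invariant under the torus vanish -/
def TV (F E : Type*) [Field F] [Group E] (a b : Rt D) : Prop :=
  ∀ f : F → F → E, BiOn ⊤ ⊤ f →
    (∀ δ c, c ≠ 0 → ∀ t u, f (c ^ pr δ a * t) (c ^ pr δ b * u) = f t u) → ∀ t u, f t u = 1

theorem CL.symm {a b : Rt D} (h : CL S π a b) : CL S π b a :=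
  fun e e' t u h1 h2 => (h e' e u t h2 h1).symm

theorem CL.rf (hπ : CExt π) {a b : Rt D} (h : CL S π a b) (i : Ix D) :
    CL S π (rf i a) (rf i b) := fun e e' t u h1 h2 => by
  obtain ⟨n, hn⟩ := hπ.surj (S.n (sim i) 1)
  have := h (n * e * n⁻¹) (n * e' * n⁻¹) _ _
    (by rw [map_mul, map_mul, map_inv, hn, h1, S.n_sim_conj i one_ne_zero, rf_rf])
    (by rw [map_mul, map_mul, map_inv, hn, h2, S.n_sim_conj i one_ne_zero, rf_rf])
  simpa [mul_assoc] using this.conj n⁻¹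

theorem TV.symm {a b : Rt D} (h : TV F E a b) : TV F E b a :=
  fun _ hf hi t u => h _ hf.flip (fun δ c hc t u => hi δ c hc u t) u t

theorem TV.rf {a b : Rt D} (h : TV F E a b) (i : Ix D) : TV F E (rf i a) (rf i b) :=
  fun f hf hi => h f hf fun δ c hc => by simpa only [pr_rf] using hi (Chev.rf i δ) c hc

theorem bi_of_scalar {f : F → F → E} (hf : BiOn ⊤ ⊤ f) {c : F} (hc : c ≠ 1)
    (h : ∀ t u, f (c * t) u = f t u) (t u : F) : f t u = 1 :=
  hf.of_scalar (c := c) (fun t _ => ⟨(c - 1)⁻¹ * t, trivial,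
    mul_inv_cancel_left₀ (sub_ne_zero.2 hc) t⟩) (fun t _ u _ => h t u) trivial trivial

theorem TV.of_one {a b δ : Rt D} {c : F} (h0 : c ≠ 0) (h1 : c ^ pr δ a ≠ 1) (h2 : c ^ pr δ b = 1) :
    TV F E a b := fun f hf hi => bi_of_scalar hf h1 fun t u => by
  simpa [h2] using hi δ c h0 t u

theorem TV.of_two {a b : Rt D} {c : F} (h0 : c ≠ 0) (h1 : c ^ (4 - pr a b * pr b a) ≠ 1) :
    TV F E a b := fun f hf hi => bi_of_scalar hf h1 fun t u => by
  rw [← hi a _ (zpow_ne_zero 2 h0) t u, ← hi b _ (zpow_ne_zero (-pr a b) h0) (_ * t) (_ * u)]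
  simp only [pr_self, ← mul_assoc, ← zpow_mul, ← zpow_add₀ h0]
  rw [show -pr a b * 2 + 2 * pr a b = 0 by ring, zpow_zero, one_mul]
  congr 3; ring

theorem TV.of_prim {a : Rt D} (h : Prim a) {v : F} (h0 : v ≠ 0) (h1 : v ≠ 1)
    (h2 : 1 - v + v ^ 2 ≠ 0) : TV F E a a := fun f hf hi => hf.of_diag h0 h1 h2 fun c t u hc => by
  obtain ⟨δ, hδ⟩ := h
  simpa [hδ] using hi δ c hc t u

theorem bi_comm (hπ : CExt π) {a b : Rt D} (hc : ∀ t u, Commute (S.x a t) (S.x b u)) :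
    (∀ t u, π ⁅surjInv hπ.surj (S.x a t), surjInv hπ.surj (S.x b u)⁆ = 1) ∧
    BiOn ⊤ ⊤ fun t u => ⁅surjInv hπ.surj (S.x a t), surjInv hπ.surj (S.x b u)⁆ := by
  have hs := surjInv_eq hπ.surj
  have h1 : ∀ t u, π ⁅surjInv hπ.surj (S.x a t), surjInv hπ.surj (S.x b u)⁆ = 1 := fun t u => by
    rw [map_commutatorElement, hs, hs, (hc t u).commutator_eq]
  exact ⟨h1, fun t _ t' _ u _ => (comm_eq_of_map_eq hπ.cent (by simp [hs, S.add]) rfl).trans
    (comm_mul_left_of_central (hπ.cent (h1 _ _))),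
    fun t _ u _ u' _ => (comm_eq_of_map_eq hπ.cent rfl (by simp [hs, S.add])).trans
    (comm_mul_right_of_central (hπ.cent (h1 _ _)))⟩

theorem CL.of_surjInv (hπ : CExt π) {a b : Rt D}
    (h : ∀ t u, ⁅surjInv hπ.surj (S.x a t), surjInv hπ.surj (S.x b u)⁆ = 1) : CL S π a b :=
  fun e e' t u he he' => commutatorElement_eq_one_iff_commute.1
    ((comm_eq_of_map_eq hπ.cent (he.trans (surjInv_eq _ _).symm)
      (he'.trans (surjInv_eq _ _).symm)).trans (h t u))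

theorem CL.of_TV (hπ : CExt π) {a b : Rt D} (h : TV F E a b)
    (hc : ∀ t u, Commute (S.x a t) (S.x b u)) : CL S π a b := by
  have hs := surjInv_eq hπ.surj
  refine .of_surjInv hπ (h _ (bi_comm hπ hc).2 fun δ c h0 t u => ?_)
  rw [← conj_cen hπ.cent ((bi_comm hπ hc).1 t u) (surjInv hπ.surj (S.h δ c)),
    conjugate_commutatorElement]
  exact comm_eq_of_map_eq hπ.cent (by simp [hs, S.h_conj δ h0]) (by simp [hs, S.h_conj δ h0])

theorem CL.of_cterm (hπ : CExt π) {a : Rt D} {P Q : Rt D → Prop} (h : CTerm P Q 1 a)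
    (hP : ∀ v, P v → ∀ t u, Commute (S.x v t) (S.x a u)) (hQ : ∀ v, Q v → CL S π v a) :
    CL S π a a := fun e e' t u he he' => by
  have hs := surjInv_eq hπ.surj
  obtain ⟨z, hz, hz'⟩ := S.x_mem_of_cterm h (by simp) (K := (centralizer {e'}).map π)
    (fun b c hb hc t u => ⟨_, mem_centralizer_singleton_iff.2 (commute_comm_lift hπ
      (u := surjInv hπ.surj (S.x c (-u))) (v := surjInv hπ.surj (S.x b (-t)))
      (by rw [hs, he']; exact hP c hc _ _) (by rw [hs, he']; exact hP b hb _ _)), by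
        simp [hs, S.x_neg, commutatorElement_def, mul_assoc]⟩)
    (fun v hv w => ⟨_, mem_centralizer_singleton_iff.2 (hQ v hv _ _ _ _ (hs _) he'), hs _⟩) t
  exact (commute_of_map_eq hπ.cent (hz'.trans he.symm)
    (Commute.symm (mem_centralizer_singleton_iff.1 hz))).symm

theorem CL.of_prime (hπ : CExt π) (hF : ∀ t : F, ∃ k : ℤ, t = k) (a : Rt D) : CL S π a a :=
  .of_surjInv hπ fun t u => by
    obtain ⟨k, rfl⟩ := hF t
    obtain ⟨l, rfl⟩ := hF u
    have h := (bi_comm hπ (S.x_comm_self a)).2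
    have h1 := h.zsmul_l k (t := 1) (u := l) trivial trivial
    have h2 := h.zsmul_r l (t := 1) (u := 1) trivial trivial
    simp only [mul_one] at h1 h2
    rw [h1, h2]; simp

/-- additive lifts of one root subgroup that are compatible with the torus -/
structure TL (S : StSys D F G) (π : E →* G) (a : Rt D) (y : F → E) : Prop where
  map : ∀ t, π (y t) = S.x a t
  add : ∀ t u, y (t + u) = y t * y u
  conj : ∀ δ c h, c ≠ 0 → π h = S.h δ c → ∀ t, h * y t * h⁻¹ = y (c ^ pr δ a * t)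

theorem exists_TL (hπ : CExt π) (hH : ∀ a ∈ S.H, ∀ b ∈ S.H, a * b = b * a) {a δ : Rt D} {c : F}
    (h0 : c ≠ 0) (h1 : c ^ pr δ a ≠ 1) (h : CL S π a a) : ∃ y, TL S π a y := by
  have hs := surjInv_eq hπ.surj
  have h2 := sub_ne_zero.2 h1
  obtain ⟨z, hz⟩ := hπ.surj (S.h δ c)
  have h3 : ∀ t, π ⁅z, surjInv hπ.surj (S.x a ((c ^ pr δ a - 1)⁻¹ * t))⁆ = S.x a t := fun t => by
    rw [map_commutatorElement, hs, hz, commutatorElement_def, S.h_conj δ h0, ← S.x_neg, ← S.add]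
    congr 1; field_simp; ring
  refine ⟨_, h3, fun t u => ?_, fun ε d w hd hw t => ?_⟩
  · rw [comm_eq_of_map_eq hπ.cent rfl (b' := surjInv hπ.surj (S.x a ((c ^ pr δ a - 1)⁻¹ * t)) *
      surjInv hπ.surj (S.x a ((c ^ pr δ a - 1)⁻¹ * u))) (by simp [hs, S.add, mul_add]),
      show ∀ a b b' : E, ⁅a, b * b'⁆ = ⁅a, b⁆ * (b * ⁅a, b'⁆ * b⁻¹) from fun a b b' => by
        simp only [commutatorElement_def]; group, (h _ _ _ _ (hs _) (h3 u)).eq, mul_inv_cancel_right]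
  · rw [conjugate_commutatorElement]
    refine comm_eq_of_map_eq hπ.cent ?_ ?_
    · rw [map_mul, map_mul, map_inv, hw, hz, hH _ (S.h_mem_H ε hd) _ (S.h_mem_H δ h0),
        mul_inv_cancel_right]
    · rw [map_mul, map_mul, map_inv, hw, hs, hs, S.h_conj ε hd, mul_left_comm]

theorem lifts_of_TL {y : Rt D → F → E} (h : ∀ a, TL S π a (y a)) : Lifts S π y :=
  ⟨fun a => (h a).map, fun a => (h a).add⟩

theorem TV.van (hπ : CExt π) {y : Rt D → F → E} (h : ∀ a, TL S π a (y a)) {a b : Rt D}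
    (hv : TV F E a b) : Van π y a b := fun f hf _ hi => hv f hf fun δ c hc =>
  hi _ (fun r => c ^ pr δ r) ⟨fun _ => zpow_ne_zero _ hc,
    fun r => (h r).conj δ c _ hc (surjInv_eq hπ.surj _)⟩

theorem CL.dir {y : Rt D → F → E} (L : Lifts S π y) {a b : Rt D} (h : CL S π a b) (t u : F) :
    ⁅y a t, y b u⁆ ∈ YS y (PC a b) := by
  rw [(h _ _ _ _ (L.map _ _) (L.map _ _)).commutator_eq]; exact one_mem _

/-- the relations can be lifted -/
def Lft (S : StSys D F G) (π : E →* G) : Prop :=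
  ∃ y : Rt D → F → E, (∀ r t, π (y r t) = S.x r t) ∧ RelAB y

theorem pair_ind {P : Rt D → Rt D → Prop} (h0 : ∀ i b, P (sim i) b)
    (h1 : ∀ i a b, P a b → P (rf i a) (rf i b)) (a b : Rt D) : P a b :=
  ind_sim (Q := fun a => ∀ b, P a b) h0 (fun i a h b => rf_rf i b ▸ h1 i _ _ (h (rf i b))) a b

theorem pair_ind' {P : Rt D → Rt D → Prop} (h0 : ∀ i b, b ≠ sim i → b ≠ ng (sim i) → P (sim i) b)
    (h1 : ∀ i a b, P a b → P (rf i a) (rf i b)) (a b : Rt D) : b ≠ a → b ≠ ng a → P a b :=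
  pair_ind (P := fun a b => b ≠ a → b ≠ ng a → P a b) h0 (fun i a b h e e' => h1 i a b
    (h (fun k => e (k ▸ rfl)) fun k => e' (by rw [k, rf_ng]))) a b

theorem lft_of_torus (hπ : CExt π) (hH : ∀ a ∈ S.H, ∀ b ∈ S.H, a * b = b * a)
    (h1 : ∀ i : Ix D, ∃ δ, ∃ c : F, c ≠ 0 ∧ c ^ pr δ (sim i) ≠ 1)
    (h2 : ∀ i, CL S π (sim i) (sim i))
    (h3 : ∀ i b, b ≠ sim i → b ≠ ng (sim i) → TV F E (sim i) b ∨ CL S π (sim i) b) : Lft S π := by
  have h4 : ∀ a, ∃ y, TL S π a y := fun a => by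
    obtain ⟨δ, c, h0, h1⟩ := ind_sim (Q := fun a : Rt D => ∃ δ, ∃ c : F, c ≠ 0 ∧ c ^ pr δ a ≠ 1) h1
      (fun i r ⟨δ, c, h⟩ => ⟨rf i δ, c, by rwa [pr_rf]⟩) a
    exact exists_TL hπ hH h0 h1 (ind_sim (Q := fun a => CL S π a a) h2 (fun i _ h => h.rf hπ i) a)
  choose y hy using h4
  exact ⟨y, fun a => (hy a).map, (lifts_of_TL hy).relAB hπ.cent fun a b e e' =>
    (pair_ind' (P := fun a b => TV F E a b ∨ CL S π a b) h3
      (fun i _ _ h => h.imp (·.rf i) (·.rf hπ i)) a b e e').imp (·.van hπ hy)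
      (·.dir (lifts_of_TL hy))⟩

/-- the commutator of two root elements is a root element -/
def Sum1 (a b v : Rt D) : Prop :=
  ∃ C ∈ [(1 : ℤ), -1], b ≠ a ∧ b ≠ ng a ∧ D.commTerms a b = [((v : ℕ), C, 1, 1)]

instance (a b v : Rt D) : Decidable (Sum1 a b v) := by unfold Sum1; infer_instance

theorem Sum1.rel {a b v : Rt D} (h : Sum1 a b v) (S : StSys D F G) : ∃ C : F, C * C = 1 ∧
    (∀ t u, S.x b u * S.x a t = S.x a t * S.x b u * S.x v (C * t * u)) ∧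
    ∀ t u, ⁅S.x a t, S.x b u⁆ = S.x v (-(C * t * u)) := by
  obtain ⟨C, hC, h⟩ := h
  have h1 : ∀ t u, S.x b u * S.x a t = S.x a t * S.x b u * S.x v (-C * t * u) := fun t u => by
    simpa using S.comm_of h t u
  refine ⟨-C, by simp at hC; rcases hC with rfl | rfl <;> simp, h1, fun t u => ?_⟩
  have := h1 (-t) (-u)
  rw [S.x_neg, S.x_neg, ← inv_mul_eq_iff_eq_mul] at this
  rw [S.x_neg, show -(C : F) * t * u = -C * -t * -u by ring, ← this, commutatorElement_def]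
  group

theorem CL.jacobi (hπ : CExt π) (p : ℕ) [CharP F p] (hp : Odd p) {c r s r' s' v : Rt D}
    (h1 : Sum1 c r r') (h2 : Sum1 c s s') (h3 : Sum1 r' s v) (h4 : Sum1 r s' v)
    (h5 : ∀ t u, Commute (S.x r t) (S.x s u)) (h6 : ∀ t u, Commute (S.x r' t) (S.x s' u))
    (k1 : CL S π v r) (k2 : CL S π v r') (k3 : CL S π v s) (k4 : CL S π v s') : CL S π r' s' := by
  have hs := surjInv_eq hπ.surj
  obtain ⟨C1, a1, b1, -⟩ := h1.rel S
  obtain ⟨C2, a2, b2, -⟩ := h2.rel S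
  obtain ⟨C3, -, -, b3⟩ := h3.rel S
  obtain ⟨C4, -, -, b4⟩ := h4.rel S
  refine .of_surjInv hπ fun t u => ?_
  set A := surjInv hπ.surj (S.x r (C1 * t))
  set B := surjInv hπ.surj (S.x s (C2 * u))
  have hf : π ⁅A, B⁆ = 1 := (bi_comm hπ h5).1 _ _
  have key : ∀ (w : F) (A' B' : E), π A' = S.x r' (w * t) → π B' = S.x s' (w * u) →
      ⁅A', B⁆ * ⁅A', B'⁆ * ⁅A, B'⁆ = 1 := fun w A' B' hA hB => by
    have e1 : π ⁅A', B'⁆ = 1 := by rw [map_commutatorElement, hA, hB, (h6 _ _).commutator_eq]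
    have e2 := k1 ⁅A', B⁆ A _ _ (by rw [map_commutatorElement, hA, hs, b3]) (hs _)
    have e3 := k3 ⁅A, B'⁆ B _ _ (by rw [map_commutatorElement, hB, hs, b4]) (hs _)
    have e4 : ⁅A * A', B * B'⁆ = ⁅A, B⁆ := by
      rw [← conj_cen hπ.cent hf (surjInv hπ.surj (S.x c w))⁻¹, conjugate_commutatorElement]
      refine comm_eq_of_map_eq hπ.cent ?_ ?_
      · simp only [map_mul, map_inv, inv_inv, hs, A, hA, mul_assoc, b1, inv_mul_cancel_left]
        congr 2; linear_combination (-w * t) * a1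
      · simp only [map_mul, map_inv, inv_inv, hs, B, hB, mul_assoc, b2, inv_mul_cancel_left]
        congr 2; linear_combination (-w * u) * a2
    rw [show ⁅A * A', B * B'⁆ = A * (⁅A', B⁆ * (B * ⁅A', B'⁆ * B⁻¹)) * A⁻¹ *
      (⁅A, B⁆ * (B * ⁅A, B'⁆ * B⁻¹)) by simp only [commutatorElement_def]; group,
      conj_cen hπ.cent e1, ← e3.eq, mul_inv_cancel_right, ← mul_assoc A, ← e2.eq, mul_assoc _ A,
      mul_assoc _ _ A⁻¹, conj_cen hπ.cent e1, ← cen hπ.cent hf, ← mul_assoc, mul_eq_right] at e4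
    exact e4
  set A' := surjInv hπ.surj (S.x r' t)
  set B' := surjInv hπ.surj (S.x s' u)
  have hg : π ⁅A', B'⁆ = 1 := (bi_comm hπ h6).1 _ _
  have e1 := key 1 A' B' (by rw [hs, one_mul]) (by rw [hs, one_mul])
  have e2 := key (-1) A'⁻¹ B'⁻¹ (by simp [A', hs, S.x_neg]) (by simp [B', hs, S.x_neg])
  have e3 := k2 ⁅A', B⁆ A' _ _ (by rw [map_commutatorElement, hs, hs, b3]) (hs _)
  have e4 := k4 ⁅A, B'⁆ B' _ _ (by rw [map_commutatorElement, hs, hs, b4]) (hs _)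
  rw [show ⁅A'⁻¹, B⁆ = A'⁻¹ * ⁅A', B⁆⁻¹ * A' by simp only [commutatorElement_def]; group,
    show ⁅A, B'⁻¹⁆ = B'⁻¹ * ⁅A, B'⁆⁻¹ * B' by simp only [commutatorElement_def]; group,
    show ⁅A'⁻¹, B'⁻¹⁆ = (B' * A')⁻¹ * ⁅A', B'⁆ * (B' * A')⁻¹⁻¹ by
      simp only [commutatorElement_def]; group, conj_cen hπ.cent hg,
    mul_assoc A'⁻¹, e3.inv_left.eq, inv_mul_cancel_left, mul_assoc B'⁻¹, e4.inv_left.eq,
    inv_mul_cancel_left] at e2
  have e5 : ⁅A', B'⁆ ^ 2 = 1 := by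
    have := conj_cen hπ.cent hg ⁅A', B⁆⁻¹
    generalize ⁅A', B⁆ = k at *
    generalize ⁅A, B'⁆ = l at *
    generalize ⁅A', B'⁆ = m at *
    calc m ^ 2 = k⁻¹ * (k * m * l) * l⁻¹ * (k⁻¹ * m * k⁻¹⁻¹) := by rw [this, sq]; group
      _ = k⁻¹ * l⁻¹ * (k⁻¹ * m * l⁻¹) * (l * k) := by rw [e1]; group
      _ = 1 := by rw [e2]; group
  obtain ⟨k, rfl⟩ := hp
  have e6 : ⁅A', B'⁆ ^ (2 * k + 1) = 1 := (bi_comm hπ h6).2.pow_char _ trivial trivial
  rwa [pow_succ, pow_mul, e5, one_pow, one_mul] at e6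

end Cfsg.Agent.Mult
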