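import Mathlib
import Cfsg.Agent.Mult.Tor
import Cfsg.Agent.Chev.All2

/-! Milnor's argument for simply laced types of large rank. -/

set_option autoImplicit false
set_option linter.unusedSectionVars false
set_option linter.unusedVariables false
set_option maxRecDepth 100000

namespace Cfsg.Agent.Mult
open Subgroup Cfsg.Lie Cfsg.Agent.Chev Cfsg.Agent.H2.Schur Function
open scoped commutatorElement

variable {D : ChevalleyDatum} [g : Good2 D] {F : Type*} [Field F] {G E : Type*} [Group G] [Group E]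
  {S : StSys D F G} {π : E →* G}

theorem Sum1.rf {a b v : Rt D} (h : Sum1 a b v) (k : Ix D) : Sum1 (rf k a) (rf k b) (rf k v) := by
  obtain ⟨C, hC, h1, h2, e⟩ := h
  have e' := (rfAut k).commTerms_p a b
  rw [e] at e'
  simp only [rfAut_w, rfAut_p, sw_apply, rfAut_η, List.map_cons, List.map_nil] at e'
  refine ⟨_, ?_, fun e => h1 ((sw k).injective e),
    fun e => h2 ((sw k).injective (by rw [sw_apply, sw_apply, e, rf_ng])), e'⟩
  simp only [List.mem_cons, List.not_mem_nil, or_false] at hC ⊢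
  rcases eta_cases k a with h | h <;> rcases eta_cases k b with h' | h' <;>
    rcases eta_cases k v with h'' | h'' <;> rcases hC with rfl | rfl <;> simp [h, h', h'']

theorem Sum1.co {a b v : Rt D} (h : Sum1 a b v) : co v = co a + co b := by
  obtain ⟨C, -, -, -, e⟩ := h
  obtain ⟨-, -, w, h1, h2⟩ := mem_commTerms (r := a) (s := b) (c := (v, C, 1, 1)) (by simp [e])
  simpa [← Fin.ext h1] using h2

theorem pr_add {a v b c : Rt D} (h : co v = co b + co c) : pr a v = pr a b + pr a c := by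
  rw [pr_eq a v, pr_eq a b, pr_eq a c, h, map_add]

/-- simply laced systems with enough room -/
structure SLd (D : ChevalleyDatum) [Good2 D] : Prop where
  symm : ∀ r s : Rt D, pr r s = pr s r
  le : ∀ r s : Rt D, s ≠ r → pr r s ≤ 1
  sum : ∀ r s : Rt D, pr r s = -1 → ∃ v, Sum1 r s v
  dec : ∀ a b : Rt D, 0 ≤ pr a b → ∃ c, pr b c = 1 ∧ 0 ≤ pr a c ∧ pr a c ≤ pr a b
  adj : ∀ r c : Rt D, pr r c = 1 → ∃ c', pr r c' = 1 ∧ pr c c' = 1

/-- `r` is the sum of `c` and `d` -/
def Dc (r c d : Rt D) : Prop := pr c d = -1 ∧ co r = co c + co d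

namespace SLd
variable (H : SLd D)
include H

theorem comm {a b : Rt D} (h : 0 ≤ pr a b) (S : StSys D F G) (t u : F) :
    Commute (S.x a t) (S.x b u) :=
  S.commute_of (by rintro rfl; simp at h) (fun v i j hi hj e => by
    have h1 : ∀ r, pr r v = i * pr r a + j * pr r b := fun r => by
      rw [pr_eq r v, pr_eq r a, pr_eq r b, e, map_add, map_zsmul, map_zsmul, smul_eq_mul, smul_eq_mul]
    have h2 := h1 v
    have h3 := h1 a
    have h4 := h1 b
    rw [H.symm v a, H.symm v b, h3, h4, H.symm b a] at h2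
    simp only [pr_self] at h2
    nlinarith [mul_pos hi hj, mul_nonneg (mul_pos hi hj).le h]) t u

theorem swap {r c d : Rt D} (h : Dc r c d) : Dc r d c := ⟨H.symm c d ▸ h.1, add_comm (co c) _ ▸ h.2⟩

theorem pr_l {r c d : Rt D} (h : Dc r c d) : pr r c = 1 := by
  rw [H.symm, pr_add h.2, h.1, pr_self]; rfl

theorem dc {r c : Rt D} (h : pr r c = 1) : ∃ d, Dc r c d := by
  have : co r = co c + co (rW c • r) := by rw [co_rW, ← H.symm, h]; simp
  refine ⟨_, ?_, this⟩
  have h1 := pr_add (a := c) this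
  rw [← H.symm, h, pr_self] at h1
  omega

theorem rel {r c d : Rt D} (h : Dc r c d) (S : StSys D F G) :
    ∃ C : F, C * C = 1 ∧ ∀ t u, ⁅S.x c t, S.x d u⁆ = S.x r (C * t * u) := by
  obtain ⟨v, hv⟩ := H.sum c d h.1
  obtain rfl : v = r := co_inj (hv.co.trans h.2.symm)
  obtain ⟨C, h1, -, h2⟩ := hv.rel S
  exact ⟨-C, by simpa using h1, by simpa using h2⟩

variable (hπ : CExt π)
include hπ

theorem cl {a b : Rt D} (h : 0 ≤ pr a b) : CL S π a b := fun e e' t u he he' => by
  have hs := surjInv_eq hπ.surj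
  obtain ⟨c, h1, h2, h3⟩ := H.dec a b h
  obtain ⟨d, hd⟩ := H.dc h1
  obtain ⟨C, hC, hr⟩ := H.rel hd S
  have h4 := pr_add (a := a) hd.2
  refine commute_of_map_eq hπ.cent ?_ (commute_comm_lift hπ (u := surjInv hπ.surj (S.x c 1))
    (v := surjInv hπ.surj (S.x d (C * u))) (by rw [hs, he]; exact (H.comm h2 S _ _).symm)
    (by rw [hs, he]; exact (H.comm (by omega) S _ _).symm)).symm
  rw [map_commutatorElement, hs, hs, hr, he', mul_one, ← mul_assoc, hC, one_mul]

theorem adjc {r c d c' d' : Rt D} (h : Dc r c d) (h' : Dc r c' d') (h1 : pr c c' = 1) :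
    ∃ C C' : F, C * C = 1 ∧ ∀ t v u, ⁅surjInv hπ.surj (S.x c (C * t * v)), surjInv hπ.surj (S.x d u)⁆ =
      ⁅surjInv hπ.surj (S.x c' t), surjInv hπ.surj (S.x d' (C' * v * u))⁆ := by
  have hs := surjInv_eq hπ.surj
  obtain ⟨e, he⟩ := H.dc h1
  have h2 : co d' = co e + co d := by
    linear_combination (exp := 1) h.2 - h'.2 + he.2
  have h3 : pr c' d = 0 := by
    have := pr_add (a := c') h.2
    rw [← H.symm, H.pr_l h', ← H.symm, h1] at this; omega
  have h4 : pr c d' = 0 := by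
    have := pr_add (a := c) h'.2
    rw [← H.symm, H.pr_l h, h1] at this; omega
  have h5 : Dc d' e d := ⟨by
    have := pr_add (a := d) he.2
    rw [← H.symm, h.1, ← H.symm, h3, ← H.symm] at this; omega, h2⟩
  obtain ⟨C, hC, r1⟩ := H.rel he S
  obtain ⟨C', -, r2⟩ := H.rel h5 S
  obtain ⟨C'', -, r3⟩ := H.rel h S
  refine ⟨C, C', hC, fun t v u => ?_⟩
  set A := surjInv hπ.surj (S.x c' t)
  set B := surjInv hπ.surj (S.x e v)
  set K := surjInv hπ.surj (S.x d u)
  have e1 : π ⁅A, B⁆ = S.x c (C * t * v) := by rw [map_commutatorElement, hs, hs, r1]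
  have e2 : π ⁅B, K⁆ = S.x d' (C' * v * u) := by rw [map_commutatorElement, hs, hs, r2]
  rw [comm_eq_of_map_eq hπ.cent ((hs _).trans e1.symm) rfl,
    comm_eq_of_map_eq hπ.cent rfl ((hs _).trans e2.symm)]
  have k1 : Commute A K := H.cl hπ h3.ge _ _ _ _ (hs _) (hs _)
  have k2 := H.cl hπ h4.ge _ _ _ _ e1 e2
  have k3 := H.cl hπ (a := r) (b := d') (by rw [H.pr_l (H.swap h')]; omega) ⁅⁅A, B⁆, K⁆ _ _ _
    (by rw [map_commutatorElement, e1, hs, r3]) e2
  have k4 : A * ⁅B, K⁆ * A⁻¹ = ⁅A, B⁆ * ⁅B, K⁆ * ⁅A, B⁆⁻¹ * ⁅⁅A, B⁆, K⁆ := by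
    rw [conjugate_commutatorElement, k1.eq, mul_inv_cancel_right]
    simp only [commutatorElement_def]; group
  rw [commutatorElement_def A ⁅B, K⁆, k4, k2.eq, mul_inv_cancel_right, ← k3.eq, mul_inv_cancel_right]

theorem lft : Lft S π := by
  have hs := surjInv_eq hπ.surj
  let κ : Rt D → Rt D → F → F → E := fun c d t u =>
    ⁅surjInv hπ.surj (S.x c t), surjInv hπ.surj (S.x d u)⁆
  have h1 : ∀ {r c d}, Dc r c d → ∀ t u, κ c d t u = κ c d (t * u) 1 := fun {r c d} h t u => by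
    obtain ⟨c', h1, h2⟩ := H.adj r c (H.pr_l h)
    obtain ⟨d', h'⟩ := H.dc h1
    obtain ⟨C, C', hC, e⟩ := H.adjc hπ (S := S) h h' h2
    have e1 := e (C * t) 1 u
    have e2 := e (C * t) u 1
    simp only [← mul_assoc, hC, one_mul, mul_one] at e1 e2
    exact e1.trans e2.symm
  have h2 : ∀ r : Rt D, ∃ c d, Dc r c d := fun r =>
    let ⟨c, h, _⟩ := H.dec r r (by simp); ⟨c, H.dc h⟩
  choose c d hd using h2
  choose C hC hr using fun r => H.rel (hd r) S
  have h3 : ∀ r t, π (κ (c r) (d r) (C r * t) 1) = S.x r t := fun r t => by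
    rw [map_commutatorElement, hs, hs, hr, mul_one, ← mul_assoc, hC, one_mul]
  have L : Lifts S π fun r t => κ (c r) (d r) (C r * t) 1 := ⟨h3, fun r t u => by
    have := H.cl hπ (a := r) (b := c r) (by rw [H.pr_l (hd r)]; omega) _ _ _ _ (h3 r t)
      (hs (S.x (c r) (C r * u)))
    refine (comm_eq_of_map_eq hπ.cent (a' := surjInv hπ.surj (S.x (c r) (C r * u)) *
      surjInv hπ.surj (S.x (c r) (C r * t))) (by rw [map_mul, hs, hs, hs, ← S.add]; congr 1; ring)
      rfl).trans ?_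
    rw [show ∀ a a' b : E, ⁅a * a', b⁆ = a * ⁅a', b⁆ * a⁻¹ * ⁅a, b⁆ from fun a a' b => by
      simp only [commutatorElement_def]; group, ← this.eq, mul_inv_cancel_right]⟩
  have h4 : ∀ r t u, κ (c r) (d r) t u ∈ YS (fun r t => κ (c r) (d r) (C r * t) 1) {r} :=
    fun r t u => by
      rw [h1 (hd r), show t * u = C r * (C r * (t * u)) by rw [← mul_assoc, hC, one_mul]]
      exact y_mem (y := fun r t => κ (c r) (d r) (C r * t) 1) (T := {r}) rfl _
  have h5 : ∀ r t u, κ (d r) (c r) t u ∈ YS (fun r t => κ (c r) (d r) (C r * t) 1) {r} :=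
    fun r t u => by simpa only [κ, commutatorElement_inv] using inv_mem (h4 r u t)
  have h6 : ∀ {r a b c' d'}, Dc r a b → Dc r c' d' → 1 ≤ pr a c' → ∀ t u, ∃ t' u',
      κ a b t u = κ c' d' t' u' := fun {r a b c' d'} h h' h1 t u => by
    by_cases e : c' = a
    · subst e
      obtain rfl : b = d' := co_inj (add_left_cancel (h.2.symm.trans h'.2))
      exact ⟨t, u, rfl⟩
    · obtain ⟨C, C', hC, e⟩ := H.adjc hπ (S := S) h h' ((H.le _ _ e).antisymm h1)
      exact ⟨_, _, by simpa only [← mul_assoc, hC, one_mul, mul_one] using e (C * t) 1 u⟩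
  refine ⟨_, h3, L.relAB hπ.cent fun a b e e' => Or.inr fun t u => ?_⟩
  by_cases h : 0 ≤ pr a b
  · exact (H.cl hπ h).dir L t u
  have h7 := H.le a (ng b) (by rwa [Ne, ng_eq_iff])
  rw [pr_ng_right] at h7
  obtain ⟨r, hr⟩ := H.sum a b (by omega)
  have h8 : Dc r a b := ⟨by omega, hr.co⟩
  refine YS_mono (T := {r}) (by rintro _ rfl; exact ⟨1, 1, one_pos, one_pos, by simpa using h8.2⟩) ?_
  rw [comm_eq_of_map_eq hπ.cent ((h3 _ _).trans (hs _).symm) ((h3 _ _).trans (hs _).symm)]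
  have h9 := pr_add (a := a) (hd r).2
  rw [← H.symm, H.pr_l h8] at h9
  by_cases k : 1 ≤ pr a (c r)
  · obtain ⟨t', u', e⟩ := h6 h8 (hd r) k t u
    exact (congrArg (· ∈ YS _ {r}) e).mpr (h4 r t' u')
  · obtain ⟨t', u', e⟩ := h6 h8 (H.swap (hd r)) (by omega) t u
    exact (congrArg (· ∈ YS _ {r}) e).mpr (h5 r t' u')

end SLd

/-- the check for `SLd` -/
noncomputable def chkSL (c : Cert) (D : ChevalleyDatum) : Bool :=
  allN D.rank fun i => allN D.nroots fun s => ieq (c.ca D i s) (c.cpr D s (D.simple i)) &&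
    (Nat.beq s (D.simple i) || decide (c.ca D i s ≤ 1)) &&
    (!(ieq (c.ca D i s) (-1)) || decide (D.commTerms (D.simple i) s = [(c.w i s, 1, 1, 1)]) ||
      decide (D.commTerms (D.simple i) s = [(c.w i s, -1, 1, 1)])) &&
    (decide (c.ca D i s < 0) || anyN D.nroots fun k => decide (0 ≤ c.ca D i k) &&
      decide (c.ca D i k ≤ c.ca D i s) && ieq (c.cpr D s k) 1) &&
    (!(ieq (c.ca D i s) 1) || anyN D.nroots fun k => ieq (c.ca D i k) 1 && ieq (c.cpr D s k) 1)

theorem sld_of_chk (h : chkSL g.cert D = true) : SLd D := by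
  simp only [chkSL, allN_iff, anyN_iff, Bool.and_eq_true, Bool.or_eq_true, ieq_iff, Nat.beq_eq,
    decide_eq_true_eq, Bool.not_eq_true', ieq_false_iff] at h
  replace h := fun (i : Ix D) (s : Rt D) => h i i.2 s s.2
  simp only [← ca_eq', ← sim_val, cpr_eq, ← rf_val', Fin.val_inj] at h
  refine ⟨pair_ind (fun i s => by rw [pr_sim, (h i s).1.1.1.1]) fun i a b h => by
      rwa [pr_rf, pr_rf],
    pair_ind (fun i s e => by rw [pr_sim]; exact (h i s).1.1.1.2.resolve_left e) fun i a b h e => by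
      rw [pr_rf]; exact h fun k => e (k ▸ rfl),
    pair_ind (fun i s e => ?_) fun i a b h e => let ⟨v, hv⟩ := h (pr_rf i a b ▸ e); ⟨_, hv.rf i⟩,
    pair_ind (fun i s e => ?_) fun i a b h e =>
      let ⟨v, hv⟩ := h (pr_rf i a b ▸ e); ⟨rf i v, by simpa only [pr_rf] using hv⟩,
    pair_ind (fun i s e => ?_) fun i a b h e =>
      let ⟨v, hv⟩ := h (pr_rf i a b ▸ e); ⟨rf i v, by simpa only [pr_rf] using hv⟩⟩
  · have h1 : s ≠ sim i ∧ s ≠ ng (sim i) := by constructor <;> rintro rfl <;> simp at e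
    rw [pr_sim] at e
    rcases (h i s).1.1.2 with (k | k) | k
    exacts [absurd e k, ⟨_, 1, by simp, h1.1, h1.2, k⟩, ⟨_, -1, by simp, h1.1, h1.2, k⟩]
  · rw [pr_sim] at e
    obtain ⟨k, hk, h1⟩ := (h i s).1.2.resolve_left (not_lt.2 e)
    lift k to Rt D using hk
    exact ⟨k, by simpa only [← ca_eq', cpr_eq, pr_sim, and_comm, and_assoc] using h1⟩
  · rw [pr_sim] at e
    obtain ⟨k, hk, h1⟩ := (h i s).2.resolve_left (not_not.2 e)
    lift k to Rt D using hk
    exact ⟨k, by simpa only [← ca_eq', cpr_eq, pr_sim] using h1⟩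

theorem sld_E6 : @SLd chevE6 good2E6 := sld_of_chk (g := good2E6) (by decide +kernel)
theorem sld_E7 : @SLd chevE7 good2E7 := sld_of_chk (g := good2E7) (by decide +kernel)
theorem sld_E8 : @SLd chevE8 good2E8 := sld_of_chk (g := good2E8) (by decide +kernel)

end Cfsg.Agent.Mult
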