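import Mathlib
import Cfsg.Agent.Mult.Mil
import Cfsg.Agent.Chev.GrAut

/-! Certificates for lifting the relations in types `G₂`, `B₂`, `D₄`, `F₄`. -/

set_option autoImplicit false
set_option linter.unusedSectionVars false
set_option linter.unusedVariables false
set_option maxRecDepth 100000

namespace Cfsg.Agent.Mult
open Subgroup Cfsg.Lie Cfsg.Agent.Chev Cfsg.Agent.H2.Schur Function Polynomial
open scoped commutatorElement

variable {D : ChevalleyDatum} [g : Good2 D] {F : Type*} [Field F] {G E : Type*} [Group G] [Group E]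
  {S : StSys D F G} {π : E →* G}

/-- the field has elements that behave like elements of order `N` -/
def Ord (F : Type*) [Field F] (N : ℕ) : Prop := ∀ k : ℤ, k.natAbs ≤ 3 → k % N ≠ 0 →
  ∃ c : F, c ≠ 0 ∧ c ^ k ≠ 1 ∧ ∀ l : ℤ, l % N = 0 → c ^ l = 1

theorem exists_not_root {s : Finset F} (hs : 4 < s.card) {P : F[X]} (hP : P.Monic)
    (h : P.natDegree ≤ 4) : ∃ x, P.eval x ≠ 0 := by
  by_contra k
  push Not at k
  exact hP.ne_zero (eq_zero_of_natDegree_lt_card_of_eval_eq_zero' P s (fun x _ => k x) (by omega))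

theorem ord_zero {s : Finset F} (hs : 4 < s.card) : Ord F 0 := fun k h h0 => by
  have h1 : k.natAbs ≠ 0 := by simpa using h0
  obtain ⟨c, hc⟩ := exists_not_root hs (monic_X.mul (monic_X_pow_sub_C (1 : F) h1)) (by
    rw [monic_X.natDegree_mul (monic_X_pow_sub_C _ h1), natDegree_X, natDegree_X_pow_sub_C]; omega)
  simp only [eval_mul, eval_X, eval_sub, eval_pow, eval_C, mul_ne_zero_iff, sub_ne_zero] at hc
  refine ⟨c, hc.1, fun e => hc.2 ?_, fun l hl => by simp_all⟩
  rcases Int.natAbs_eq k with e' | e' <;> rw [e'] at e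
  exacts [zpow_natCast c _ ▸ e, by rwa [zpow_neg, inv_eq_one, zpow_natCast] at e]

theorem ord_of {c : F} {N : ℕ} (h0 : c ≠ 0) (h : orderOf c = N) : Ord F N := fun k _ hk => by
  have h1 : ∀ l : ℤ, c ^ l = 1 ↔ l % N = 0 := fun l => by
    lift c to Fˣ using h0.isUnit
    rw [← Units.val_zpow_eq_zpow_val, Units.val_eq_one, ← orderOf_dvd_iff_zpow_eq_one,
      ← orderOf_units, h, Int.dvd_iff_emod_eq_zero]
  exact ⟨c, h0, mt (h1 k).1 hk, fun l => (h1 l).2⟩

theorem commute_of_commP' (S : StSys D F G) {p : ℕ} (hp : (p : F) = 0) {v w : Rt D}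
    (h : commP D p v w = true) (a b : F) : Commute (S.x v a) (S.x w b) := by
  by_cases e : w = v
  · subst e; exact S.x_comm_self _ _ _
  simp only [commP, Bool.or_eq_true, Nat.beq_eq, Bool.and_eq_true, Bool.not_eq_true', lall_iff,
    ieq_iff, ← Bool.not_eq_true, ← ng_val', Fin.val_inj] at h
  obtain ⟨h1, h2⟩ := h.resolve_left e
  have h3 : wd S.x (D.commWord F v w a b) ∈ (⊥ : Subgroup G) := wd_mem fun r t hr => by
    obtain ⟨c, hc, e⟩ := List.mem_map.mp hr
    obtain ⟨k, hk⟩ := Int.dvd_of_emod_eq_zero (h2 c hc)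
    obtain rfl : _ = t := congrArg Prod.snd e
    simp [hk, hp]
  have := S.comm v w e h1 a b
  rw [Subgroup.mem_bot.mp h3, mul_one] at this
  exact this.symm

noncomputable section

def tv1 (c : Cert) (D : ChevalleyDatum) (N a b : ℕ) : Bool := anyN D.nroots fun δ =>
  ieq (c.cpr D δ b % N) 0 && !(ieq (c.cpr D δ a % N) 0) && Nat.ble (c.cpr D δ a).natAbs 3

def tvb (c : Cert) (D : ChevalleyDatum) (N a b : ℕ) : Bool := tv1 c D N a b || tv1 c D N b a

def clb (c : Cert) (D : ChevalleyDatum) (N p a b : ℕ) : Bool := tvb c D N a b && commP D p a b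

def sumb (c : Cert) (D : ChevalleyDatum) (a b v : ℕ) : Bool :=
  ieq (c.cpr D a b) (-1) && ieq (c.cpr D a v) 1 && !(Nat.beq b a) && !(Nat.beq b (Cert.ng D a)) &&
    (decide (D.commTerms a b = [(v, 1, 1, 1)]) || decide (D.commTerms a b = [(v, -1, 1, 1)]))

def jac (c : Cert) (D : ChevalleyDatum) (N p a b : ℕ) : Bool :=
  commP D p a b && anyN D.nroots fun k => ieq (c.cpr D k a) 1 && ieq (c.cpr D k b) 1 &&
    anyN D.nroots fun r => sumb c D k r a && anyN D.nroots fun s => sumb c D k s b &&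
      commP D p r s && anyN D.nroots fun v => sumb c D a s v && sumb c D r b v &&
        clb c D N p v r && clb c D N p v a && clb c D N p v s && clb c D N p v b

def chkL (c : Cert) (D : ChevalleyDatum) (N p : ℕ) (J : Bool) : Bool := allN D.rank fun i =>
  (anyN D.nroots fun δ => !(ieq (c.cpr D δ (D.simple i) % N) 0) &&
    Nat.ble (c.cpr D δ (D.simple i)).natAbs 3) &&
  allN D.nroots fun b => Nat.beq b (D.simple i) || Nat.beq b (Cert.ng D (D.simple i)) ||
    tvb c D N (D.simple i) b || (J && jac c D N p (D.simple i) b)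

def chkS (c : Cert) (D : ChevalleyDatum) (N p : ℕ) (J : Bool) : Bool := allN D.rank fun i =>
  (J && c.prim D (D.simple i)) || anyN D.nroots fun a => anyN D.nroots fun b => anyN 2 fun k =>
    chkCT D (fun v => commP D p v (D.simple i)) (fun v => clb c D N p v (D.simple i)) 1
      (D.simple i) (a, b, k)

end

variable {N p : ℕ}

theorem tv1_spec (hO : Ord F N) {a b : Rt D} (h : tv1 g.cert D N a b = true) : TV F E a b := by
  simp only [tv1, anyN_iff, Bool.and_eq_true, ieq_iff, Bool.not_eq_true', ieq_false_iff,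
    Nat.ble_eq] at h
  obtain ⟨δ, hδ, ⟨h1, h2⟩, h3⟩ := h
  lift δ to Rt D using hδ
  rw [cpr_eq] at h1 h2 h3
  obtain ⟨c, h0, h4, h5⟩ := hO _ h3 h2
  exact .of_one h0 h4 (h5 _ h1)

theorem tvb_spec (hO : Ord F N) {a b : Rt D} (h : tvb g.cert D N a b = true) : TV F E a b :=
  (Bool.or_eq_true _ _ ▸ h).elim (tv1_spec hO) fun h => (tv1_spec hO h).symm

theorem clb_spec (hπ : CExt π) (hO : Ord F N) (hp : (p : F) = 0) {a b : Rt D}
    (h : clb g.cert D N p a b = true) : CL S π a b :=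
  have := Bool.and_eq_true _ _ ▸ h
  .of_TV hπ (tvb_spec hO this.1) (commute_of_commP' S hp this.2)

theorem sumb_spec {a b v : Rt D} (h : sumb g.cert D a b v = true) : Sum1 a b v := by
  simp only [sumb, Bool.and_eq_true, Bool.or_eq_true, Bool.not_eq_true', decide_eq_true_eq,
    ← Bool.not_eq_true, Nat.beq_eq, ← ng_val', Fin.val_inj] at h
  obtain ⟨⟨⟨-, h1⟩, h2⟩, h | h⟩ := h
  exacts [⟨1, by simp, h1, h2, h⟩, ⟨-1, by simp, h1, h2, h⟩]

theorem jac_spec (hπ : CExt π) (hO : Ord F N) [CharP F p] (hp : Odd p) {a b : Rt D}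
    (h : jac g.cert D N p a b = true) : CL S π a b := by
  simp only [jac, anyN_iff, Bool.and_eq_true] at h
  obtain ⟨h0, k, hk, -, r, hr, h1, s, hs, ⟨h2, h3⟩, v, hv, ⟨⟨⟨⟨h4, h5⟩, h6⟩, h7⟩, h8⟩, h9⟩ := h
  lift k to Rt D using hk
  lift r to Rt D using hr
  lift s to Rt D using hs
  lift v to Rt D using hv
  have e := CharP.cast_eq_zero F p
  exact .jacobi hπ p hp (sumb_spec h1) (sumb_spec h2) (sumb_spec h4) (sumb_spec h5)
    (commute_of_commP' S e h3) (commute_of_commP' S e h0) (clb_spec hπ hO e h6)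
    (clb_spec hπ hO e h7) (clb_spec hπ hO e h8) (clb_spec hπ hO e h9)

theorem lft_of_chk (hπ : CExt π) (hH : ∀ a ∈ S.H, ∀ b ∈ S.H, a * b = b * a) (hO : Ord F N)
    {J : Bool} (hJ : J = true → CharP F p ∧ Odd p) (h : chkL g.cert D N p J = true)
    (h2 : ∀ i, CL S π (sim i) (sim i)) : Lft S π := by
  simp only [chkL, allN_iff, anyN_iff, Bool.and_eq_true, Bool.or_eq_true, Bool.not_eq_true',
    ieq_false_iff, Nat.ble_eq, Nat.beq_eq] at h
  refine lft_of_torus hπ hH (fun i => ?_) h2 fun i b e e' => ?_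
  · obtain ⟨δ, hδ, h1, h3⟩ := (h i i.2).1
    lift δ to Rt D using hδ
    rw [← sim_val, cpr_eq] at h1 h3
    obtain ⟨c, h0, h4, -⟩ := hO _ h3 h1
    exact ⟨δ, c, h0, h4⟩
  · have := (h i i.2).2 b b.2
    simp only [← sim_val, ← ng_val', Fin.val_inj, e, e', false_or] at this
    exact this.imp (tvb_spec hO) fun k => have := (hJ k.1).1; jac_spec hπ hO (hJ k.1).2 k.2

theorem cl_of_chk (hπ : CExt π) (hO : Ord F N) (hp : (p : F) = 0) {J : Bool}
    (hJ : J = true → ∃ v : F, v ≠ 0 ∧ v ≠ 1 ∧ 1 - v + v ^ 2 ≠ 0) (h : chkS g.cert D N p J = true)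
    (i : Ix D) : CL S π (sim i) (sim i) := by
  simp only [chkS, allN_iff, anyN_iff, Bool.and_eq_true, Bool.or_eq_true] at h
  rcases h i i.2 with ⟨h1, h2⟩ | ⟨a, -, b, -, k, -, h1⟩
  · obtain ⟨v, h0, h3, h4⟩ := hJ h1
    exact .of_TV hπ (.of_prim ((prim_iff (sim i)).1 h2) h0 h3 h4) (S.x_comm_self _)
  · exact .of_cterm hπ (chkCT_spec (s := sim i) h1) (fun v hv => commute_of_commP' S hp hv)
      fun v hv => clb_spec hπ hO hp hv

theorem lft_big (hπ : CExt π) (hH : ∀ a ∈ S.H, ∀ b ∈ S.H, a * b = b * a) {s : Finset F}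
    (hs : 4 < s.card) (h : chkL g.cert D 0 0 false = true) (h' : chkS g.cert D 0 0 true = true) :
    Lft S π :=
  lft_of_chk hπ hH (ord_zero hs) (by simp) h (cl_of_chk hπ (ord_zero hs) (by simp) (fun _ => by
    obtain ⟨v, hv⟩ := exists_not_root hs (P := X * (X - 1) * (X ^ 2 - X + 1)) (by monicity!)
      (by compute_degree!)
    simp only [eval_mul, eval_X, eval_sub, eval_pow, eval_add, eval_one, mul_ne_zero_iff,
      sub_ne_zero] at hv
    exact ⟨v, hv.1.1, hv.1.2, fun e => hv.2 (by linear_combination e)⟩) h')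

theorem lft_four [Fintype F] (hπ : CExt π) (hH : ∀ a ∈ S.H, ∀ b ∈ S.H, a * b = b * a)
    (hF : Fintype.card F = 4) (h : chkL g.cert D 3 2 false = true)
    (h' : chkS g.cert D 3 2 false = true) : Lft S π := by
  obtain ⟨c, hc⟩ := IsCyclic.exists_ofOrder_eq_natCard (α := Fˣ)
  rw [Nat.card_units, Nat.card_eq_fintype_card, hF, ← orderOf_units] at hc
  have h2 : (2 : F) = 0 := by
    have := FiniteField.cast_card_eq_zero F
    rw [hF] at this
    exact pow_eq_zero_iff two_ne_zero |>.1 (by rw [← this]; norm_num)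
  exact lft_of_chk hπ hH (ord_of c.ne_zero hc) (by simp) h
    (cl_of_chk hπ (ord_of c.ne_zero hc) (by simpa using h2) (by simp) h')

theorem three_facts [Fintype F] (hF : Fintype.card F = 3) :
    CharP F 3 ∧ Ord F 2 ∧ ∀ t : F, ∃ k : ℤ, t = k := by
  have := Fact.mk Nat.prime_three
  have h := charP_of_card_eq_prime hF
  refine ⟨h, ord_of (c := -1) (by simp) (by rw [orderOf_neg_one, ringChar.eq F 3]; rfl), fun t => ?_⟩
  obtain ⟨k, rfl⟩ := (ZMod.ringEquiv F hF).surjective t
  obtain ⟨k, rfl⟩ := ZMod.intCast_surjective k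
  exact ⟨k, map_intCast _ k⟩

theorem lft_three [Fintype F] (hπ : CExt π) (hH : ∀ a ∈ S.H, ∀ b ∈ S.H, a * b = b * a)
    (hF : Fintype.card F = 3) (h : chkL g.cert D 2 3 true = true) : Lft S π :=
  let ⟨h1, h2, h3⟩ := three_facts hF
  lft_of_chk hπ hH h2 (fun _ => ⟨h1, by decide⟩) h fun _ => .of_prime hπ h3 _

theorem chk_G2 : chkL certG2 chevG2 0 0 false = true ∧ chkS certG2 chevG2 0 0 true = true := by
  decide +kernel
theorem chk_B2 : chkL certB2 chevB2 0 0 false = true ∧ chkS certB2 chevB2 0 0 true = true ∧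
    chkL certB2 chevB2 3 2 false = true ∧ chkS certB2 chevB2 3 2 false = true := by
  decide +kernel
theorem chk_D4 : chkL certD4 chevD4 0 0 false = true ∧ chkS certD4 chevD4 0 0 true = true ∧
    chkL certD4 chevD4 3 2 false = true ∧ chkS certD4 chevD4 3 2 false = true ∧
    chkL certD4 chevD4 2 3 true = true := by
  decide +kernel
theorem chk_F4 : chkL certF4 chevF4 0 0 false = true ∧ chkS certF4 chevF4 0 0 true = true ∧
    chkL certF4 chevF4 3 2 false = true ∧ chkS certF4 chevF4 3 2 false = true ∧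
    chkL certF4 chevF4 2 3 true = true := by
  decide +kernel

end Cfsg.Agent.Mult
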