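import Mathlib
import Cfsg.Agent.Mult.Chk

/-! Lifting the relations in type `B₂` over the field with three elements. -/

set_option autoImplicit false
set_option linter.unusedSectionVars false
set_option linter.unusedVariables false
set_option maxRecDepth 100000

namespace Cfsg.Agent.Mult
open Subgroup Cfsg.Lie Cfsg.Agent.Chev Cfsg.Agent.H2.Schur Function
open scoped commutatorElement

variable {D : ChevalleyDatum} [g : Good2 D] {F : Type*} [Field F] {G E : Type*} [Group G] [Group E]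
  {S : StSys D F G} {π : E →* G}

theorem CL.of_swap (hπ : CExt π) [CharP F 3] (hF : ∀ t : F, ∃ k : ℤ, t = k) {i : Ix D} {a : Rt D}
    (h : Even (ca i a).natAbs) (hc : ∀ t u, Commute (S.x a t) (S.x (Chev.rf i a) u)) :
    CL S π a (Chev.rf i a) := by
  have hs := surjInv_eq hπ.surj
  obtain ⟨h0, h1⟩ := bi_comm hπ hc
  set f : F → F → E := fun t u => ⁅surjInv hπ.surj (S.x a t), surjInv hπ.surj (S.x (Chev.rf i a) u)⁆
  have h2 : ∀ k l : ℤ, f k l = f 1 1 ^ (l * k) := fun k l => by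
    have e1 := h1.zsmul_l k (t := 1) (u := l) trivial trivial
    have e2 := h1.zsmul_r l (t := 1) (u := 1) trivial trivial
    simp only [mul_one] at e1 e2
    rw [e1, e2, zpow_mul]
  have h3 : f 1 1 = (f (eta i (Chev.rf i a)) (eta i a))⁻¹ := by
    simp only [f]
    rw [← conj_cen hπ.cent (h0 1 1) (surjInv hπ.surj (S.n (sim i) 1)), conjugate_commutatorElement,
      commutatorElement_inv]
    exact comm_eq_of_map_eq hπ.cent (by simp [hs, S.n_sim_conj]) (by simp [hs, S.n_sim_conj])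
  rw [h2, eta_mul_eta_rf, h.neg_one_pow, zpow_one, eq_inv_iff_mul_eq_one] at h3
  have h4 := h1.pow_char 3 (t := 1) (u := 1) trivial trivial
  rw [pow_succ, sq, h3, one_mul] at h4
  refine .of_surjInv hπ fun t u => ?_
  obtain ⟨k, rfl⟩ := hF t
  obtain ⟨l, rfl⟩ := hF u
  exact (h2 k l).trans (by rw [h4, one_zpow])

noncomputable section

def swb (c : Cert) (D : ChevalleyDatum) (a b : ℕ) : Bool := anyN D.rank fun i =>
  Nat.beq b (c.w i a) && decide (Even (c.ca D i a).natAbs) && commP D 3 a b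

def chkB (c : Cert) (D : ChevalleyDatum) (L : ℕ → Bool) (b k : ℕ → ℕ) : Bool :=
  allN D.nroots fun v => (L v || c.prim D v) &&
    (!(L v) || (Nat.blt (b v) D.nroots && Nat.blt (k v) D.nroots && !(L (b v)) && !(L (k v)) &&
      !(Nat.beq (k v) (b v)) && !(Nat.beq (k v) (Cert.ng D (b v))) &&
      (decide (D.commTerms (b v) (k v) = [(v, 2, 1, 1)]) ||
        decide (D.commTerms (b v) (k v) = [(v, -2, 1, 1)])) &&
      clb c D 2 3 v (b v) && clb c D 2 3 v (k v))) &&
    allN D.nroots fun a => Nat.beq a v || Nat.beq a (Cert.ng D v) || tvb c D 2 v a || swb c D v a ||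
      (anyN D.rank fun j => swb c D (c.w j v) (c.w j a)) || anyN D.nroots fun w => L w &&
        ((Nat.beq v (b w) && Nat.beq a (k w)) || (Nat.beq a (b w) && Nat.beq v (k w)))

end

theorem swb_spec (hπ : CExt π) [CharP F 3] (hF : ∀ t : F, ∃ k : ℤ, t = k) {a b : Rt D}
    (h : swb g.cert D a b = true) : CL S π a b := by
  simp only [swb, anyN_iff, Bool.and_eq_true, Nat.beq_eq, decide_eq_true_eq] at h
  obtain ⟨i, hi, ⟨h1, h2⟩, h3⟩ := h
  lift i to Ix D using hi
  rw [← rf_val', Fin.val_inj] at h1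
  subst h1
  exact .of_swap hπ hF (ca_eq' i a ▸ h2) (commute_of_commP' S (CharP.cast_eq_zero F 3) h3)

theorem lft_B [Fintype F] (hπ : CExt π) (hH : ∀ a ∈ S.H, ∀ b ∈ S.H, a * b = b * a)
    (hF : Fintype.card F = 3) {L : ℕ → Bool} {b₀ k₀ : ℕ → ℕ} (h : chkB g.cert D L b₀ k₀ = true) :
    Lft S π := by
  obtain ⟨_, hO, hZ⟩ := three_facts hF
  have h30 := CharP.cast_eq_zero F 3
  simp only [chkB, allN_iff, anyN_iff, Bool.and_eq_true, Bool.or_eq_true, Bool.not_eq_true',
    Nat.blt_eq, Nat.beq_eq, decide_eq_true_eq, ← Bool.not_eq_true] at h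
  have h1 : ∀ a : Rt D, ¬ L a → ∃ y, TL S π a y := fun a ha => by
    obtain ⟨δ, hδ⟩ := (prim_iff a).1 ((h a a.2).1.1.resolve_left ha)
    obtain ⟨c, h0, h1, -⟩ := hO 1 (by simp) (by simp)
    exact exists_TL hπ hH h0 (hδ ▸ h1) (.of_prime hπ hZ a)
  choose! y hy using h1
  have h2 : ∀ v : Rt D, L v → ∃ (b k : Rt D) (C : F), b₀ v = b ∧ k₀ v = k ∧ ¬ L b ∧ ¬ L k ∧
      C * C = 1 ∧ co v = co b + co k ∧ (∀ t u, ⁅S.x b t, S.x k u⁆ = S.x v (C * t * u)) ∧
      CL S π v b ∧ CL S π v k := fun v hv => by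
    obtain ⟨⟨⟨⟨⟨⟨⟨⟨a1, a2⟩, a3⟩, a4⟩, a5⟩, a6⟩, a7⟩, a8⟩, a9⟩ := (h v v.2).1.2.resolve_left (not_not.2 hv)
    obtain ⟨C, hC, a7⟩ : ∃ C : ℤ, (C : F) * C = 1 ∧ D.commTerms (b₀ v) (k₀ v) = [(v.1, C, 1, 1)] := by
      rcases a7 with a7 | a7 <;> refine ⟨_, ?_, a7⟩ <;> push_cast at h30 ⊢ <;>
        linear_combination h30
    generalize b₀ v = b at *
    generalize k₀ v = k at *
    lift b to Rt D using a1
    lift k to Rt D using a2
    rw [← ng_val', Fin.val_inj] at *
    obtain ⟨-, -, w, e1, e2⟩ := mem_commTerms (r := b) (s := k) (c := (v, C, 1, 1)) (by simp [a7])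
    refine ⟨b, k, C, rfl, rfl, a3, a4, hC, by simpa [← Fin.ext e1] using e2, fun t u => ?_,
      clb_spec hπ hO h30 a8, clb_spec hπ hO h30 a9⟩
    have := S.comm_of ⟨a5, a6, a7⟩ (-t) (-u)
    simp only [List.map_cons, List.map_nil, wd_cons, wd_nil, mul_one, pow_one, neg_neg] at this
    rw [S.x_neg, S.x_neg, ← inv_mul_eq_iff_eq_mul, mul_neg, S.x_neg, eq_inv_iff_mul_eq_one,
      ← eq_inv_iff_mul_eq_one, ← inv_eq_iff_eq_inv] at this
    rw [← this, commutatorElement_def]; group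
  choose! b k C e1 e2 hb hk hC hco hr c1 c2 using h2
  have h3 : ∀ v : Rt D, L v → BiOn ⊤ ⊤ fun t u => ⁅y (b v) t, y (k v) u⁆ := fun v hv => by
    have e : ∀ t u, π ⁅y (b v) t, y (k v) u⁆ = S.x v (C v * t * u) := fun t u => by
      rw [map_commutatorElement, (hy _ (hb v hv)).map, (hy _ (hk v hv)).map, hr v hv]
    refine ⟨fun t _ t' _ u _ => ?_, fun t _ u _ u' _ => ?_⟩
    · rw [add_comm, (hy _ (hb v hv)).add, show ∀ a a' b : E, ⁅a * a', b⁆ = a * ⁅a', b⁆ * a⁻¹ * ⁅a, b⁆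
        from fun a a' b => by simp only [commutatorElement_def]; group,
        ← (c1 v hv _ _ _ _ (e _ _) ((hy _ (hb v hv)).map _)).eq, mul_inv_cancel_right]
    · rw [(hy _ (hk v hv)).add, show ∀ a b b' : E, ⁅a, b * b'⁆ = ⁅a, b⁆ * (b * ⁅a, b'⁆ * b⁻¹)
        from fun a a' b => by simp only [commutatorElement_def]; group,
        ← (c2 v hv _ _ _ _ (e _ _) ((hy _ (hk v hv)).map _)).eq, mul_inv_cancel_right]
  have h4 : ∀ v : Rt D, L v → ∀ c t u, ⁅y (b v) t, y (k v) (c * u)⁆ = ⁅y (b v) (c * t), y (k v) u⁆ :=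
    fun v hv c t u => by
      obtain ⟨l, rfl⟩ := hZ c
      exact ((h3 v hv).zsmul_r l trivial trivial).trans ((h3 v hv).zsmul_l l trivial trivial).symm
  let z : Rt D → F → E := fun v => if L v then fun t => ⁅y (b v) t, y (k v) (C v)⁆ else y v
  have hz : ∀ v, TL S π v (z v) := fun v => by
    by_cases hv : L v
    · simp only [z, if_pos hv]
      refine ⟨fun t => ?_, fun t u => (h3 v hv).l _ trivial _ trivial _ trivial,
        fun δ c h h0 hh t => ?_⟩
      · rw [map_commutatorElement, (hy _ (hb v hv)).map, (hy _ (hk v hv)).map, hr v hv,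
          mul_right_comm, hC v hv, one_mul]
      · rw [conjugate_commutatorElement, (hy _ (hb v hv)).conj δ c h h0 hh,
          (hy _ (hk v hv)).conj δ c h h0 hh, h4 v hv, pr_add (hco v hv), zpow_add₀ h0, mul_assoc,
          mul_left_comm]
    · simpa only [z, if_neg hv] using hy v hv
  have h5 : ∀ v : Rt D, L v → ∀ t u, ⁅z (b v) t, z (k v) u⁆ ∈ YS z {v} := fun v hv t u => by
    have := y_mem (y := z) (T := {v}) rfl (u * C v * t)
    simp only [z, if_pos hv, if_neg (hb v hv), if_neg (hk v hv)] at this ⊢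
    rwa [← h4 v hv, mul_assoc, hC v hv, mul_one] at this
  refine ⟨z, fun a => (hz a).map, (lifts_of_TL hz).relAB hπ.cent fun v a e e' => ?_⟩
  have := (h v v.2).2 a a.2
  simp only [← ng_val', Fin.val_inj, e, e', false_or] at this
  rcases this with ((h1 | h1) | ⟨j, hj, h1⟩) | ⟨w, hw, h1, h2⟩
  · exact .inl ((tvb_spec hO h1).van hπ hz)
  · exact .inr ((swb_spec hπ hZ h1).dir (lifts_of_TL hz))
  · lift j to Ix D using hj
    rw [← rf_val', ← rf_val'] at h1
    exact .inr (CL.dir (lifts_of_TL hz) (by simpa using (swb_spec hπ hZ h1).rf hπ j))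
  · lift w to Rt D using hw
    rw [e1 w h1, e2 w h1, Fin.val_inj, Fin.val_inj, Fin.val_inj, Fin.val_inj] at h2
    refine .inr fun t u => YS_mono (T := {w}) ?_ ?_
    · rintro _ rfl
      exact ⟨1, 1, one_pos, one_pos, by
        rcases h2 with ⟨rfl, rfl⟩ | ⟨rfl, rfl⟩ <;> simp [hco _ h1, add_comm]⟩
    · rcases h2 with ⟨rfl, rfl⟩ | ⟨rfl, rfl⟩
      exacts [h5 w h1 t u, by simpa only [commutatorElement_inv] using inv_mem (h5 w h1 u t)]

theorem chk_B3 : chkB certB2 chevB2 (fun v => [true, false, false, true, true, false, false, true].getD v false)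
    (fun v => [1, 0, 0, 1, 2, 0, 0, 5].getD v 0) (fun v => [2, 0, 0, 5, 6, 0, 0, 6].getD v 0) = true := by
  decide +kernel

end Cfsg.Agent.Mult
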