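import Mathlib
import Cfsg.Agent.Mult.B3
import Cfsg.Agent.Chev.SL2
import Cfsg.Agent.Chev.Smith
import Cfsg.Agent.H2.SchurSL2
import Cfsg.Agent.H23.BT1

/-! Universal central extensions of the Chevalley groups. -/

set_option autoImplicit false
set_option linter.unusedSectionVars false
set_option linter.unusedVariables false

universe u

namespace Cfsg.Agent.Mult
open Subgroup Cfsg.Lie Cfsg.Agent.Chev Cfsg.Agent.H2.Schur Function
open scoped commutatorElement

section
variable {D : ChevalleyDatum} [g : Good2 D] {F : Type*} [Field F] {G E : Type*} [Group G] [Group E]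
  {π : E →* G} (S : StSys D F G) (r : Rt D)

theorem n_conj_n {t u : F} (ht : t ≠ 0) (hu : u ≠ 0) :
    S.n r t * S.n r u * (S.n r t)⁻¹ = S.n r (t * t * u⁻¹) := by
  have := S.n_ng r (t := -(t⁻¹ * t⁻¹ * u)) (by simp [ht, hu])
  rw [show -(-(t⁻¹ * t⁻¹ * u))⁻¹ = t * t * u⁻¹ by field_simp] at this
  rw [← this, StSys.n.eq_def S r u, StSys.n.eq_def S (ng r), ng_ng, ← S.n_conj_self r ht,
    show -(-(t⁻¹ * t⁻¹ * u))⁻¹ = -(t * t * -u⁻¹) by field_simp, ← S.n_conj_ng r ht]
  group

theorem h_mul_of_add {t s : F} (h0 : t ≠ 0) (h1 : s ≠ 0) (h : t + s = 1) :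
    S.h r (t * s) = S.h r t * S.h r s := by
  have e1 := S.n_ng r (one_ne_zero (α := F))
  have e2 := S.n_conj_ng r h0 1
  have e3 := S.n_conj_ng r (neg_ne_zero.2 h1) 1
  rw [S.n_neg, inv_inv] at e3
  rw [inv_one, StSys.n, ng_ng, inv_one, show (-1 : F) = -t + -s by linear_combination h, S.add,
    show -t + -s = -1 by linear_combination -h] at e1
  have e4 : S.n r t * S.n r (-1) * S.n r s = S.n r t * S.x (ng r) 1 * (S.n r t)⁻¹ *
      (S.n r t * S.x r (-t)) * (S.x r (-s) * S.n r s) * ((S.n r s)⁻¹ * S.x (ng r) 1 * S.n r s) := by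
    rw [← e1]; group
  rw [e2, e3, StSys.n.eq_def S r t, StSys.n.eq_def S r s, S.x_neg r t, S.x_neg r s,
    mul_inv_cancel_right, mul_assoc (S.x r s), inv_mul_cancel_left] at e4
  rw [StSys.h, StSys.h, StSys.h, ← mul_assoc, mul_left_inj, StSys.n.eq_def S r t,
    StSys.n.eq_def S r s, mul_assoc (S.x r s), e4, StSys.n,
    show -(t * s)⁻¹ = -t⁻¹ + -s⁻¹ by field_simp; linear_combination h, S.add]
  simp only [← mul_assoc, ← S.add]
  rw [mul_assoc _ (S.x r s), ← S.add, show -(t * t * 1) + t = t * s by linear_combination -t * h,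
    show s + -(-s * -s * 1) = t * s by linear_combination -s * h, S.add, ← mul_assoc]

theorem r3_of_finite [Finite F] (hS : S.grp = ⊤) : S.R3 := fun r t u ht hu => by
  have := Fintype.ofFinite F
  have h1 : ∀ t u : F, t ≠ 0 → u ≠ 0 → Commute (S.h r t) (S.h r u) := fun t u ht hu => by
    obtain ⟨c, hc⟩ := IsCyclic.exists_monoid_generator (α := Fˣ)
    have h2 : ∀ k : ℕ, S.θG hS (S.h r c ^ k) = S.θG hS (S.h r (c ^ k)) := fun k => by
      have h3 : ∀ t, S.θG hS (S.h r t) = (chSys D F).h r t := fun t => by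
        simp [StSys.h, StSys.n, S.θG_x]
      induction k with
      | zero => simp
      | succ k ih => rw [pow_succ, map_mul, ih, h3, h3, h3, pow_succ, ch_R3 r _ _ (by simp) (by simp)]
    obtain ⟨k, hk⟩ := hc (.mk0 t ht)
    obtain ⟨l, hl⟩ := hc (.mk0 u hu)
    obtain rfl : (c : F) ^ k = t := by simpa using congrArg Units.val hk
    obtain rfl : (c : F) ^ l = u := by simpa using congrArg Units.val hl
    exact commute_of_map_eq (S.ker_θG hS).le (h2 l) (commute_of_map_eq (S.ker_θG hS).le (h2 k)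
      ((Commute.refl _).pow_pow l k)).symm
  have h2 : ∀ t u : F, t ≠ 0 → u ≠ 0 → S.h r (t ^ 2 * u) = S.h r u * S.h r (t ^ 2) :=
    fun t u ht hu => by
      have e1 := S.h_conj_n r ht r u
      have e2 := S.h_conj_n r ht r 1
      have e3 := (h1 t u ht hu).eq
      rw [pr_self, zpow_ofNat] at e1 e2
      rw [mul_one] at e2
      rw [S.h_eq r (_ * u), S.h_eq r (t ^ 2), ← e1, ← e2, ← mul_inv_cancel_right (S.h r u) (S.h r t),
        ← e3, S.h_eq r u]
      group
  by_cases h3 : IsSquare t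
  · obtain ⟨t, rfl⟩ := h3
    rw [← sq, h2 t u (left_ne_zero_of_mul ht) hu, (h1 u _ hu (sq t ▸ ht)).eq]
  by_cases h4 : IsSquare u
  · obtain ⟨u, rfl⟩ := h4
    rw [← sq, mul_comm t, h2 u t (left_ne_zero_of_mul hu) ht]
  obtain ⟨a, b, hab⟩ := exists_sq_add_sq t⁻¹
  have ha : a ≠ 0 := fun e => h3 (by rw [← isSquare_inv, ← hab, e]; exact ⟨b, by ring⟩)
  have hb : b ≠ 0 := fun e => h3 (by rw [← isSquare_inv, ← hab, e]; exact ⟨a, by ring⟩)
  obtain ⟨c, hc⟩ : IsSquare (t * u) := by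
    classical
    by_contra h5
    have := map_mul (quadraticChar F) t u
    rw [quadraticChar_neg_one_iff_not_isSquare.2 h3, quadraticChar_neg_one_iff_not_isSquare.2 h4,
      quadraticChar_neg_one_iff_not_isSquare.2 h5] at this
    omega
  have hc0 : c ≠ 0 := left_ne_zero_of_mul (hc ▸ mul_ne_zero ht hu)
  have e1 := h_mul_of_add S r (t := a ^ 2 * t) (s := b ^ 2 * t) (by simp [ha, ht]) (by simp [hb, ht])
    (by rw [← add_mul, hab, inv_mul_cancel₀ ht])
  have e2 := h2 a (b ^ 2) ha (by simp [hb])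
  rw [show a ^ 2 * t * (b ^ 2 * t) = t ^ 2 * (a ^ 2 * b ^ 2) by ring, h2 _ _ ht (by simp [ha, hb]),
    e2, h2 a t ha ht, h2 b t hb ht] at e1
  have e3 : S.h r (t ^ 2) = S.h r t * S.h r t := by
    have k1 := h1 t (a ^ 2) ht (by simp [ha])
    have k2 := h1 t (b ^ 2) ht (by simp [hb])
    have k3 := h1 (a ^ 2) (b ^ 2) (by simp [ha]) (by simp [hb])
    rw [← k3.eq, k1.eq, k2.eq, mul_assoc, mul_assoc, mul_right_inj, ← mul_assoc, k2.eq, mul_assoc,
      mul_right_inj] at e1
    exact e1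
  have e4 : u = (c / t) ^ 2 * t := by field_simp; linear_combination hc
  rw [e4, h2 _ t (by simp [hc0, ht]) ht, ← mul_assoc, ← mul_assoc, ← e3,
    ← h2 _ _ (by simp [hc0, ht]) (by simp [ht])]
  congr 1; ring

theorem lft_of_coprime (hπ : CExt π) (p : ℕ) [CharP F p] {m : ℕ} (hm : p.Coprime m)
    (h : ∀ z, π z = 1 → z ^ m = 1) : Lft S π := by
  have hs := surjInv_eq hπ.surj
  obtain ⟨k, hk, hk'⟩ := Nat.chineseRemainder hm 1 0
  have h1 : ∀ r t, S.x r t ^ p = 1 := fun r t => by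
    have : ∀ n : ℕ, S.x r t ^ n = S.x r (n * t) := fun n => by
      induction n <;> simp [pow_succ, add_mul, S.add, *]
    simp [this]
  have h2 : ∀ z, π z = 1 → z ^ p = 1 → z = 1 := fun z h1 h2 => by
    rw [← pow_one z, ← hm.gcd_eq_one, pow_gcd_eq_one]
    exact ⟨h2, h z h1⟩
  have h3 : ∀ r t, π (surjInv hπ.surj (S.x r t) ^ k) = S.x r t := fun r t => by
    rw [map_pow, hs, pow_eq_pow_of_modEq hk (h1 r t), pow_one]
  have h4 : ∀ r t, (surjInv hπ.surj (S.x r t) ^ k) ^ p = 1 := fun r t => by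
    rw [← pow_mul, mul_comm, pow_mul, pow_eq_pow_of_modEq hk' (h _ (by simp [hs, h1])), pow_zero]
  have L : Lifts S π fun r t => surjInv hπ.surj (S.x r t) ^ k := ⟨h3, fun r t u => by
    obtain ⟨k1, k2⟩ := bi_comm hπ (S.x_comm_self r)
    have k3 := CL.of_surjInv hπ fun t u => h2 _ (k1 t u) (k2.pow_char p trivial trivial)
    obtain ⟨z, hz, hz', e⟩ := exists_central_of_map_eq hπ.cent
      ((h3 r (t + u)).trans (by rw [map_mul, h3, h3, S.add] : _ = π (surjInv hπ.surj (S.x r t) ^ k *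
        surjInv hπ.surj (S.x r u) ^ k)))
    have := (k3 _ _ _ _ (h3 r t) (h3 r u)).mul_pow p
    rw [h4, h4, e, Commute.mul_pow (mem_center_iff.1 hz _), h4, one_mul, one_mul] at this
    rw [e, h2 z hz' this, mul_one]⟩
  exact ⟨_, h3, L.relAB hπ.cent fun a b _ _ => .inl fun f hf h _ t u =>
    h2 _ (h t u) (hf.pow_char p trivial trivial)⟩

theorem Lft.sc {ξ : E →* D.group F} (h : Lft (chSys D F) ξ) :
    ∃ ψ : D.SteinbergCover F →* E, ξ.comp ψ = (scSys D F).θG sc_grp :=
  let ⟨_, h1, h2⟩ := h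
  ⟨scLift h2, StSys.hom_ext sc_grp fun r t => by
    rw [MonoidHom.comp_apply, scLift_x, h1, StSys.θG_x]⟩

theorem cext_θG (hS : S.grp = ⊤) : CExt (S.θG hS) := ⟨S.θG_surjective hS, (S.ker_θG hS).le⟩

variable (D F) in
/-- (R3) follows from (R1) and (R2) over finite fields -/
noncomputable def scEquiv [Finite F] : D.SteinbergCover F ≃* D.SteinbergGroup F :=
  MonoidHom.toMulEquiv (scLift st_relAB) (r3_of_finite _ sc_grp).lift
    (StSys.hom_ext sc_grp fun r t => by
      rw [MonoidHom.comp_apply, scLift_x, ← stSys_x, StSys.R3.lift_x, MonoidHom.id_apply])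
    (StSys.hom_ext st_grp fun r t => by
      rw [MonoidHom.comp_apply, StSys.R3.lift_x, scLift_x, MonoidHom.id_apply, stSys_x])

theorem scEquiv_x [Finite F] (t : F) : scEquiv D F ((scSys D F).x r t) = (stSys D F).x r t :=
  scLift_x st_relAB r t

end

variable {D : ChevalleyDatum} [g : Good2 D] {F : Type u} [Field F]

variable (D F) in
/-- the relations lift to all central extensions -/
def LA : Prop := ∀ (X : Type u) [Group X] (ξ : X →* D.group F), CExt ξ → Lft (chSys D F) ξ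

theorem LA.lift (h : LA D F) [Group.IsPerfect (D.SteinbergCover F)] {G E : Type*} [Group G]
    [Group E] {π : E →* G} (hπ : CExt π) (σ : D.SteinbergCover F →* G) :
    ∃! τ : D.SteinbergCover F →* E, π.comp τ = σ := by
  obtain ⟨ψ, hψ⟩ := (h _ _ (cext_comp (cext_of_stem stem_univ) (cext_θG _ sc_grp))).sc
  obtain ⟨η, hη⟩ := exists_lift_univ hπ σ
  have : (univMap _).comp ψ = .id _ := hom_eq_of_perfect (cext_θG _ sc_grp).cent hψ
  have h1 : π.comp (η.comp ψ) = σ := by
    rw [← MonoidHom.comp_assoc, hη, MonoidHom.comp_assoc, this, MonoidHom.comp_id]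
  exact ⟨_, h1, fun τ hτ => hom_eq_of_perfect hπ.cent (hτ.trans h1.symm)⟩

theorem perfect_st [Group.IsPerfect (D.SteinbergCover F)] [Finite F] :
    Group.IsPerfect (D.SteinbergGroup F) :=
  Group.IsPerfect.ofSurjective (f := (scEquiv D F).toMonoidHom) (scEquiv D F).surjective

theorem finite_st [Finite F] : Finite (D.SteinbergGroup F) :=
  have := H23.BT.finite_grp (st_R3 (D := D) (F := F))
  Finite.of_surjective (fun a : (stSys D F).grp => a.1) fun a => ⟨⟨a, st_grp.ge trivial⟩, rfl⟩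

theorem LA.has_st [Finite F] (h : LA D F) [Group.IsPerfect (D.SteinbergCover F)] :
    HasCyclicSchurMultiplier (D.SteinbergGroup F) 1 :=
  have := finite_st (D := D) (F := F)
  has_one_of fun _ _ _ σ hσ =>
    let ⟨τ, hτ, _⟩ := h.lift (cext_of_stem hσ) (scEquiv D F).toMonoidHom
    ker_eq_bot_of_section hσ (s := τ.comp (scEquiv D F).symm.toMonoidHom) (by
      rw [← MonoidHom.comp_assoc, hτ]; ext; simp)

theorem LA.card_mult [Finite F] (h : LA D F) [Group.IsPerfect (D.SteinbergCover F)] :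
    Finite (D.group F) ∧
      Nat.card (Mult (D.group F)) = Nat.card (center (D.SteinbergGroup F)) := by
  have := finite_st (D := D) (F := F)
  have := perfect_st (D := D) (F := F)
  have := Finite.of_surjective _ (cext_θG (stSys D F) st_grp).surj
  refine ⟨this, ?_⟩
  rw [card_mult_of_perfect (cext_θG _ st_grp), card_mult_of_has h.has_st, StSys.ker_θG]
  simp

theorem LA.has_one [Finite F] (h : LA D F) [Group.IsPerfect (D.SteinbergCover F)]
    (hk : (pw Fˣ (cartanM D)).ker = ⊥) : HasCyclicSchurMultiplier (D.group F) 1 :=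
  have := h.card_mult.1
  has_of_card_mult_one (by rw [h.card_mult.2, st_R3.center_eq st_grp, hk]; simp)

theorem perfect_three (h : ∃ a : F, a ≠ 0 ∧ a ≠ 1) : Group.IsPerfect (D.SteinbergCover F) :=
  ⟨(scSys D F).commutator_eq_top sc_grp (StSys.perfect_of_three h)⟩

theorem perfect_single (h : Single D) : Group.IsPerfect (D.SteinbergCover F) :=
  ⟨(scSys D F).commutator_eq_top sc_grp (StSys.perfect_of_single h)⟩

theorem la_of_sld (h : SLd D) : LA D F := fun _ _ _ hξ => h.lft hξ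

theorem la_big {s : Finset F} (hs : 4 < s.card)
    (h : chkL g.cert D 0 0 false = true ∧ chkS g.cert D 0 0 true = true) : LA D F :=
  fun _ _ _ hξ => lft_big hξ ch_R3.H_comm hs h.1 h.2

theorem la_fin [Fintype F] (hF : 3 ≤ Fintype.card F) (h1 : chkL g.cert D 0 0 false = true)
    (h2 : chkS g.cert D 0 0 true = true) (h3 : chkL g.cert D 3 2 false = true)
    (h4 : chkS g.cert D 3 2 false = true) (h5 : Fintype.card F = 3 → LA D F) : LA D F := by
  obtain h | h | h : Fintype.card F = 3 ∨ Fintype.card F = 4 ∨ 4 < Fintype.card F := by omega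
  exacts [h5 h, fun _ _ _ hξ => lft_four hξ ch_R3.H_comm h h3 h4, la_big (s := .univ) h ⟨h1, h2⟩]

theorem la_B2 [Fintype F] (hF : 3 ≤ Fintype.card F) : @LA chevB2 good2B2 F _ :=
  letI := good2B2
  la_fin hF chk_B2.1 chk_B2.2.1 chk_B2.2.2.1 chk_B2.2.2.2 fun h _ _ _ hξ =>
    lft_B hξ ch_R3.H_comm h chk_B3

theorem la_D4 [Fintype F] (hF : 3 ≤ Fintype.card F) : @LA chevD4 good2D4 F _ :=
  letI := good2D4
  la_fin hF chk_D4.1 chk_D4.2.1 chk_D4.2.2.1 chk_D4.2.2.2.1 fun h _ _ _ hξ =>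
    lft_three hξ ch_R3.H_comm h chk_D4.2.2.2.2

theorem la_F4 [Fintype F] (hF : 3 ≤ Fintype.card F) : @LA chevF4 good2F4 F _ :=
  letI := good2F4
  la_fin hF chk_F4.1 chk_F4.2.1 chk_F4.2.2.1 chk_F4.2.2.2.1 fun h _ _ _ hξ =>
    lft_three hξ ch_R3.H_comm h chk_F4.2.2.2.2

theorem exists_ne_of_card [Fintype F] (hF : 3 ≤ Fintype.card F) : ∃ a : F, a ≠ 0 ∧ a ≠ 1 := by
  classical
  obtain ⟨a, -, h⟩ := Finset.exists_mem_notMem_of_card_lt_card (s := ({0, 1} : Finset F))
    (t := .univ) (Finset.card_le_two.trans_lt hF)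
  exact ⟨a, by simpa [not_or] using h⟩

end Cfsg.Agent.Mult
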