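import Mathlib
import Cfsg.Agent.Mult.TwF
import Cfsg.Agent.Mult.Univ
import Cfsg.Agent.Chev.EmbC
import Cfsg.Agent.Chev.Rep
import Cfsg.Agent.RankOne.SzSylow
import Cfsg.Agent.S1056
import Cfsg.Agent.S2111
import Cfsg.Agent.S2112

/-! The Schur multiplier of `²F₄(q)`, `q > 2`. -/

set_option autoImplicit false
set_option linter.unusedSectionVars false

namespace Cfsg.Agent.Mult
open Subgroup Function Cfsg.Lie Cfsg.Agent.Chev Cfsg.Agent.BN StSys Tw Cfsg.Agent.H2.Schur Cfsg.Agent.RankOne.Sz Matrix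
open scoped commutatorElement
universe v

theorem pb_of_mult {H : Type*} [Group H] [Finite H] {p n : ℕ} (hp : p.Prime) (h : commutator H = ⊤)
    (h' : Nat.card (Mult H) ∣ p ^ n) : PB.{v} p (⊤ : Subgroup H) 1 := fun E _ _ π hπ hs => by
  have hs := MonoidHom.range_eq_top.1 (top_le_iff.1 hs)
  rw [Nat.dvd_one, card_eq_one, eq_bot_iff]
  refine fun z hz => hπ.cop z hz.1 ⟨n, orderOf_dvd_iff_pow_eq_one.1 ((((skr π).orderOf_dvd_natCard
    ⟨hz.1, hπ.lf_le hp ?_ hz.2⟩).trans (card_skr_dvd_mult ⟨hs, hπ.cent⟩)).trans h')⟩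
  rw [_root_.commutator_def, map_commutator, map_top_of_surjective _ hs]; exact h.ge

theorem exists_factor {A B G H : Type*} [Group A] [Group B] [Group G] [Group H] {ρ : A →* B} (hρ : Injective ρ) (f : A →* G)
    (ι : H →* B) (h : ∀ g, ι g ∈ ρ.range) : ∃ φ : H →* G, ∀ g y, ρ y = ι g → φ g = f y :=
  ⟨f.comp ((MonoidHom.ofInjective hρ).symm.toMonoidHom.comp (ι.codRestrict _ h)), fun _ _ e =>
    congrArg f ((MonoidHom.ofInjective hρ).symm_apply_eq.2 (Subtype.ext e.symm))⟩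

namespace B2
attribute [local instance] good2B2
variable {K : Type*} [Field K]

/-- the nilpotent parts -/
def AM : Fin 8 → Matrix (Fin 4) (Fin 4) ℤ :=
  ![!![0, 0, 0, 0; 0, 0, 0, 0; 0, 0, 0, 0; 1, 0, 0, 0], !![0, 0, 0, 0; 0, 0, 0, 0; 1, 0, 0, 0; 0, 1, 0, 0],
    !![0, 0, 0, 0; 1, 0, 0, 0; 0, 0, 0, 0; 0, 0, -1, 0], !![0, 0, 0, 0; 0, 0, 0, 0; 0, -1, 0, 0; 0, 0, 0, 0],
    !![0, 0, 0, 0; 0, 0, -1, 0; 0, 0, 0, 0; 0, 0, 0, 0], !![0, 1, 0, 0; 0, 0, 0, 0; 0, 0, 0, -1; 0, 0, 0, 0],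
    !![0, 0, 1, 0; 0, 0, 0, 1; 0, 0, 0, 0; 0, 0, 0, 0], !![0, 0, 0, 1; 0, 0, 0, 0; 0, 0, 0, 0; 0, 0, 0, 0]]

theorem XM_mul (r : Fin 8) (t u : K) : (1 + t • (AM r).map Int.cast) * (1 + u • (AM r).map Int.cast) =
    (1 + (t + u) • (AM r).map Int.cast : Matrix _ _ K) := by
  have : (AM r).map (Int.cast : ℤ → K) * (AM r).map Int.cast = 0 :=
    (Matrix.map_mul (f := Int.castRingHom K)).symm.trans (by rw [(by revert r; decide +kernel : AM r * AM r = 0)]; simp)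
  simp [add_mul, mul_add, this, add_smul, add_assoc, add_comm]

/-- root elements -/
def X (r : Fin 8) (t : K) : GL (Fin 4) K :=
  ⟨1 + t • (AM r).map Int.cast, 1 + (-t) • (AM r).map Int.cast, by rw [XM_mul]; simp, by rw [XM_mul]; simp⟩

/-- the columns -/
def col (r b : ℕ) : List (ℕ × ℕ × ℤ) :=
  if h : r < 8 ∧ b < 4 then (List.finRange 4).map fun i : Fin 4 => (i.1, 1, AM ⟨r, h.1⟩ i ⟨b, h.2⟩) else []

theorem relAB : RelAB (D := chevB2) (X (K := K)) := by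
  refine relAB_of_chk (n := 4) (col := col) (bv := fun k (i : Fin 4) => if i = k then 1 else 0)
    ((toLinAlgEquiv' : Matrix (Fin 4) (Fin 4) K ≃ₐ[K] _).toMonoidHom.comp (Units.coeHom _)) (fun a b h => ?_)
    (fun r τ b => ?_) (fun r t u => Units.ext (XM_mul r t u).symm) (by decide +kernel)
  · ext i j
    simpa [mulVec, dotProduct, Fin.val_inj] using congrFun (h j j.2) i
  · ext i
    rw [col]
    split_ifs with h
    · lift b to Fin 4 using h.2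
      fin_cases i <;> simp [X, evCV, mulVec, dotProduct, Fin.val_inj, List.finRange_succ, one_apply, mul_comm] <;> exact .inl rfl
    · simp [evCV, mulVec, show ∀ i : Fin 4, (i : ℕ) ≠ b from fun i e => h ⟨r.2, e ▸ i.2⟩]

variable [CharP K 2]

theorem simple [Finite K] (h : ∃ a : K, a ≠ 0 ∧ a ≠ 1) : IsSimpleGroup (chevB2.SteinbergCover K) := by
  have := (S1056.result h).1
  refine (MulEquiv.ofBijective _ ⟨(MonoidHom.ker_eq_bot_iff _).1 ?_, (scSys chevB2 K).θG_surjective sc_grp⟩).isSimpleGroup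
  rw [ker_θG, (r3_of_finite _ sc_grp).center_eq sc_grp, eq_bot_iff]
  rintro _ ⟨c, hc, rfl⟩
  have h1 := (cartanM_eq (D := chevB2) (n := 2) rfl (A := !![2, -2; -1, 2]) (by decide +kernel) c).1 hc
  obtain ⟨d, rfl⟩ : ∃ d : Fin 2 → Kˣ, d = c := ⟨c, rfl⟩
  change pw _ _ d = 1 at h1
  have h2 : d 0 ^ 2 = d 1 := by simpa [pw_apply, mul_inv_eq_one, zpow_two, sq] using congrFun h1 0
  have h3 : d 0 ^ 2 = d 1 ^ 2 := by simpa [pw_apply, inv_mul_eq_one, zpow_ofNat] using congrFun h1 1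
  have h4 : d 1 = 1 := by rw [h2, sq] at h3; simpa using h3
  have h5 : d 0 = 1 := Units.ext (frobenius_inj K 2 ((congrArg Units.val (h2.trans h4)).trans (map_one _).symm))
  rw [show d = 1 from funext (Fin.forall_fin_two.2 ⟨h5, h4⟩)]
  exact map_one _

theorem pos (s t y z : K) : (X 5 s * (X 4 t * (X 6 y * X 7 z))).1 =
    !![1, s, y + s * t, s * y + z; 0, 1, t, y; 0, 0, 1, s; 0, 0, 0, 1] := by
  ext i j
  fin_cases i <;> fin_cases j <;> simp [X, AM, Matrix.mul_apply, Fin.sum_univ_four, one_apply, CharTwo.neg_eq] <;> ring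

theorem neg (s t y z : K) : (X 2 s * (X 3 t * (X 1 y * X 0 z))).1 =
    Jmat K * !![1, s, y + s * t, s * y + z; 0, 1, t, y; 0, 0, 1, s; 0, 0, 0, 1] * Jmat K := by
  ext i j
  fin_cases i <;> fin_cases j <;> simp [X, AM, Jmat, Matrix.mul_apply, Fin.sum_univ_four, one_apply, CharTwo.neg_eq] <;> ring

end B2

namespace F4
attribute [local instance] good2F4 good2B2
variable {K : Type v} [Field K] [Fintype K] {m : ℕ} (C : CF4 K (2 ^ m))

theorem exists_sz {H Ω : Type*} [Group H] [MulAction H Ω] (Z : Model H Ω K m) :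
    ∃ φ : H →* GL chevF4.Idx K, Injective φ ∧ φ.range = LL C.T orbF4 1 := by
  have := C.char
  have := Z.finite
  have := Z.isSimpleGroup
  have h8 : 2 < Fintype.card K := by rw [Z.card_F]; exact Nat.pow_lt_pow_right (a := 2) (m := 1) (by omega) (by have := Z.one_le; omega)
  have := B2.simple (exists_ne_zero_one h8)
  let ρ := scLift (B2.relAB (K := K))
  let f := scLift (emb_B2F4.relAB (F := K))
  let x : Fin 8 → K → _ := (scSys chevB2 K).x
  have hρ : ∀ r t, ρ (x r t) = B2.X r t := scLift_x B2.relAB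
  have hf : ∀ r t, f (x r t) = (glSys chevF4 K).x (rF4 (![17, 19, 20, 22, 25, 27, 28, 30] r)) t := fun r t =>
    (scLift_x emb_B2F4.relAB r t).trans (by
      rw [show phiB2F4.getD (r : ℕ) [] = [((rF4 (![17, 19, 20, 22, 25, 27, 28, 30] r) : ℕ), 1)] by revert r; decide +kernel]
      simp [sg])
  have h1 : Injective ρ := (MonoidHom.ker_eq_bot_iff _).1 ((ρ.normal_ker.eq_bot_or_eq_top).resolve_right fun e => by
    simpa [hρ, B2.X, B2.AM] using congrArg (fun a : GL (Fin 4) K => a.1 0 3) (e.ge (mem_top (x 7 1))))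
  have e1 : ∀ t, Z.θ t = C.θ' t := fun t => by rw [Z.θ_apply, C.hθ2, pow_succ']
  have k0 : ∀ t u, Smat Z.θ (C.θ t) (C.θ t * t + u) = !![1, C.θ t, C.θ t * t + u + C.θ t * t, C.θ t * (C.θ t * t + u) + C.θ' u;
      0, 1, t, C.θ t * t + u; 0, 0, 1, C.θ t; 0, 0, 0, 1] := fun t u => by
    simp only [Smat, ff, e1, C.inv, map_add, map_mul, C.hθ' t, ← add_assoc, CharTwo.add_cancel_right]
  have k1 : ∀ t u, ρ (x 5 (C.θ t) * (x 4 t * (x 6 (C.θ t * t + u) * x 7 (C.θ' u)))) =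
      Z.ρ.toHomUnits (Z.S (C.θ t) (C.θ t * t + u)) := fun t u => Units.ext (by simp only [map_mul, hρ, B2.pos, ← k0, ← Z.ρ_S]; rfl)
  have k2 : ∀ t u, ρ (x 2 (C.θ t) * (x 3 t * (x 1 (C.θ t * t + u) * x 0 (C.θ' u)))) =
      Z.ρ.toHomUnits (Z.t * Z.S (C.θ t) (C.θ t * t + u) * Z.t⁻¹) := fun t u => Units.ext (by
    simp only [map_mul, hρ, B2.neg, ← k0, ← Z.ρ_S, ← Z.ρ_t, Z.t_inv]; rfl)
  have gen : ∀ L : Subgroup H, (∀ t u, Z.S (C.θ t) (C.θ t * t + u) ∈ L) →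
      (∀ t u, Z.t * Z.S (C.θ t) (C.θ t * t + u) * Z.t⁻¹ ∈ L) → L = ⊤ := fun L h h' => Z.top_of_Q_le (fun g hg => by
    obtain ⟨a, b, rfl⟩ := (Z.mem_Q g).1 hg
    simpa [C.inv'] using h (C.θ' a) (b - a * C.θ' a)) fun e =>
      Z.setup.not_mem (Z.mem_B_of_conj_fix (Z.S_mem _ _) (by simp [Z.S_eq_one_iff]) (e (h' 0 1)))
  obtain ⟨φ, hφ⟩ := exists_factor h1 f Z.ρ.toHomUnits fun g =>
    (gen (ρ.range.comap _) (fun t u => ⟨_, k1 t u⟩) fun t u => ⟨_, k2 t u⟩).ge (mem_top g)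
  have l1 := fun y => C.o1.1 y
  have l2 : ∀ t u, φ (Z.t * Z.S (C.θ t) (C.θ t * t + u) * Z.t⁻¹) ∈ C.T.Fx ⊓ (glSys chevF4 K).Xm (orbF4.J 1) := fun t u => by
    simp only [hφ _ _ (k2 t u), map_mul f, hf]
    exact ⟨C.b2m.word_mem C.hθ' C.inv t u, C.b2_mem_Xm t u⟩
  replace l1 : ∀ y, y ∈ C.T.Fx ⊓ (glSys chevF4 K).Xp (orbF4.J 1) ↔ ∃ t u, y = φ (Z.S (C.θ t) (C.θ t * t + u)) := fun y => by
    simp only [fun t u => hφ _ _ (k1 t u), map_mul f, hf]; exact l1 y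
  have l3 : Injective φ := (MonoidHom.ker_eq_bot_iff _).1 ((φ.normal_ker.eq_bot_or_eq_top).resolve_right fun e => by
    have := C.o1.2
    rw [card_eq_one.2 (eq_bot_iff.2 fun y hy => ((l1 y).1 hy).elim fun t h => h.elim fun u h => h ▸ e.ge (mem_top _)),
      Nat.card_eq_fintype_card] at this
    nlinarith)
  refine ⟨φ, l3, le_antisymm ?_ (sup_le (fun y hy => let ⟨_, _, e⟩ := (l1 y).1 hy; ⟨_, e.symm⟩) fun y hy => ?_)⟩
  · rintro _ ⟨g, rfl⟩
    exact (gen ((LL C.T orbF4 1).comap φ) (fun t u => mem_sup_left ((l1 _).2 ⟨t, u, rfl⟩))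
      fun t u => mem_sup_right (l2 t u)).ge (mem_top g)
  · obtain ⟨v, e⟩ := ((Nat.bijective_iff_injective_and_card (fun v : K × K =>
      (⟨_, l2 v.1 v.2⟩ : ↥(C.T.Fx ⊓ (glSys chevF4 K).Xm (orbF4.J 1))))).2 ⟨fun v w e => by
        obtain ⟨e1, e2⟩ := Z.S_inj (mul_left_cancel (mul_right_cancel (l3 (congrArg Subtype.val e))))
        obtain e1 := C.θ.injective e1
        exact Prod.ext e1 (by simpa [e1] using e2),
      by rw [card_Xm (C.eq_Fx ▸ C.isTw), C.o1.2, Nat.card_prod, sq]⟩).2 ⟨y, hy⟩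
    exact ⟨_, congrArg Subtype.val e⟩

theorem node (hm : 1 ≤ m) (hK : Fintype.card K = 2 ^ (2 * m + 1)) :
    Node.{v} C.T orbF4 2 gl_R3 (Tσ symF4 (eF4 (2 ^ m))) 1 := by
  have := C.char
  obtain ⟨_, ⟨Z⟩⟩ := exists_model_lie hK hm
  obtain ⟨φ, h1, h2⟩ := exists_sz C Z
  refine ⟨?_, fun y hy hy' => ?_⟩
  · have := Z.isSimpleGroup
    have := PB.cover.{v} Nat.prime_two (pb_of_mult (n := 2) Nat.prime_two
      ((Subgroup.Normal.eq_bot_or_eq_top inferInstance).resolve_left fun e => ?_) ?_) φ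
    · rwa [(MonoidHom.ker_eq_bot_iff φ).2 h1, card_bot, h2] at this
    · obtain ⟨x, u, h⟩ := Z.exists_commutator_eq 1
      have := e.le (commutator_mem_commutator (mem_top (Z.S x 0)) (mem_top (Z.S u 0)))
      rw [Z.S_commutator, h, mem_bot, Z.S_eq_one_iff] at this
      exact one_ne_zero this.2
    · obtain rfl | h := hm.eq_or_lt
      · exact (card_mult_of_has (S2112.result hK)).dvd.trans (by simp)
      · rw [card_mult_of_has (S2111.result h hK)]; simp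
  · obtain ⟨c, hc, rfl⟩ := (Fx_inf_H gl_R3 C.φ_pow ker_hT_F4).le ⟨LL_le 1 hy, hy'⟩
    have k : ∀ r : Rt chevF4, Pos r ∧ PhiK (orbF4.J 1) r → ∀ s ∈ [r, ng r], ∀ t u : K,
        Commute ((glSys chevF4 K).x s t) ((glSys chevF4 K).x (rF4 47) u) := fun r hr s hs =>
      commuteP _ 2 (by rw [phi1_F4] at hr; revert s r; decide +kernel)
    have h3 := commute_XS (S := glSys chevF4 K) (R := {r | PhiK (orbF4.J 1) r}) (R' := {rF4 47}) (fun r hr s hs => by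
      obtain rfl : s = _ := hs
      by_cases h : Pos r
      exacts [k r ⟨h, hr⟩ r (by simp), k (ng r) ⟨(pos_ng r).2 h, phiK_ng.2 hr⟩ r (by simp)])
      ((sup_le (inf_le_right.trans (XS_mono _ fun _ h => h.2)) (inf_le_right.trans (XS_mono _ fun _ h => h.2)) :
        LL C.T orbF4 1 ≤ _) hy) ((glSys chevF4 K).x_mem (Set.mem_singleton _) 1)
    have h4 := x_inj _ ((hT_conj' gl_R3 c (rF4 47) 1).symm.trans (mul_inv_eq_of_eq_mul h3.eq))
    obtain ⟨d, rfl⟩ : ∃ d : Fin 4 → Kˣ, d = c := ⟨c, rfl⟩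
    have h5 : d 3 = 1 := by
      have : (∏ i : Fin 4, d i ^ (![0, 0, 0, 1] i : ℤ)) = 1 := (Finset.prod_congr rfl fun i _ => congrArg _ ((by
        decide +kernel : ∀ i : Fin 4, ![0, 0, 0, 1] i = ca (nF4 i) (rF4 47)) i)).trans (Units.ext ((mul_one _).symm.trans h4))
      simpa [Fin.prod_univ_four] using this
    have h6 : d 0 = 1 := by rw [((mem_Tσ_F4 d).1 hc).2.2.2, h5, one_pow]
    exact ⟨d, hc, fun i hi => ((by decide +kernel : ∀ i : Ix chevF4, orbF4.o i ≠ 1 → i = nF4 0 ∨ i = nF4 3) i hi).elim (· ▸ h6) (· ▸ h5), rfl⟩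

theorem has (hm : 1 ≤ m) (hK : Fintype.card K = 2 ^ (2 * m + 1)) : HasCyclicSchurMultiplier (twistedF4 K (2 ^ m)) 1 := by
  obtain ⟨C⟩ := exists_CF4 hK
  have := C.char
  exact has_of_card_mult_one ((card_mult_tw Nat.prime_two C.isTw C.eq_Fx C.gen (Fin.forall_fin_two.2 ⟨node2 Nat.prime_two
    (C.eq_Fx ▸ C.isTw) (fun c _ _ h => mem_bot.1 (ker_hT_F4.le h)) C.φ_pow J0_F4 (by decide) (π_F4 3) (π_F4 0) rfl rfl so_F4
    (C.φ1 (by decide +kernel)) (C.φ2 (by decide +kernel)) C.inv, node C hm hK⟩) (two C hm hK)).trans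
    (by rw [ker_hT_F4, inf_bot_eq, card_bot]))

end F4

end Cfsg.Agent.Mult
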